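import Cfsg.Agent.Lib.Spor.Fi24.Sys

/-!
Tables of permutations on a set of 504 points, and their checks against words on the 306936 points.
-/

set_option autoImplicit false

namespace CfsgLib.Spor.Fi24Invol

open CfsgLib.BitPerm

/-- the packed entry of a table of small numbers -/
noncomputable def fld (w T i : Nat) : Nat := Nat.land (Nat.shiftRight T (Nat.mul w i)) (Nat.sub (Nat.pow 2 w) 1)

/-- a packed list -/
noncomputable def pack (w : Nat) (l : List Nat) : Nat :=
  List.rec 0 (fun x _ r => Nat.lor x (Nat.shiftLeft r w)) l

/-- plane by plane, a word sends the point with number `i` to the point with number in the table -/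
noncomputable def okTab (S : Nat) (T : Nat) (w : List Nat) : Bool :=
  force S fun S' => force T fun T' =>
    allLt 19 fun j => force (CfsgLib.BitPerm.Sys.actW Fi24.sys w (plane j 19)) fun A =>
      allLt 504 fun i => Bool.and
        (Bool.rec (Nat.beq (Nat.land (Nat.shiftRight (fld 20 S' (fld 16 T' i)) j) 1) 0)
          (Nat.beq (Nat.land (Nat.shiftRight (fld 20 S' (fld 16 T' i)) j) 1) 1) (A.testBit (fld 20 S' i)))
        (Nat.blt (fld 16 T' i) 504)

/-- the points of the set are distinct numbers below 306936 -/
noncomputable def okPts (S : Nat) : Bool :=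
  force S fun S' => allLt 504 fun i =>
    Nat.blt (fld 20 S' i) 306936 && allLt i fun j => not (Nat.beq (fld 20 S' i) (fld 20 S' j))

end CfsgLib.Spor.Fi24Invol
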