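import Cfsg.Agent.Lib.Spor.Fi24Invol.DataCliques

/-!
Checks for the standard cliques: orbits and fixed points of their products.
-/

set_option maxRecDepth 100000
set_option maxHeartbeats 0
set_option Elab.async false

namespace CfsgLib.Spor.Fi24Invol

/-- the transposition word of the end of a standard word -/
def stdT (k : Nat) : List Nat := (stdWords.getD k []).reverse ++ 0 :: stdWords.getD k []

theorem std_ends : (stdWords.map fun w => CfsgLib.BitPerm.Sys.ptW Fi24.sys w 0) = [0, 1, 5, 13] := by
  decide +kernel

theorem std_letters : stdWords.all (fun w => w.all fun n => Nat.blt n 12) = true := by decide +kernel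

theorem std_clique : ((List.range 4).all fun i => (List.range 4).all fun j =>
    Nat.beq (CfsgLib.BitPerm.Sys.ptW Fi24.sys (stdT i) ([0, 1, 5, 13].getD j 0)) ([0, 1, 5, 13].getD j 0)) = true := by
  decide +kernel

/-- the words used, in order -/
def c2Seq : List (List Nat) := c2Ops.map fun i => c2Words.getD i []

/-- the words used, in order -/
def c3Seq : List (List Nat) := c3Ops.map fun i => c3Words.getD i []

theorem c2_letters : c2Seq.all (fun w => w.all fun n => Nat.blt n 12) = true := by decide +kernel

theorem c3_letters : c3Seq.all (fun w => w.all fun n => Nat.blt n 12) = true := by decide +kernel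

theorem c2_fix : (c2Seq.all fun w => [0, 1].all fun q => Nat.beq (CfsgLib.BitPerm.Sys.ptW Fi24.sys w q) q) = true := by
  decide +kernel

theorem c3_fix : (c3Seq.all fun w => [0, 1, 5].all fun q => Nat.beq (CfsgLib.BitPerm.Sys.ptW Fi24.sys w q) q) = true := by
  decide +kernel

theorem c2_reach : okReach c2Seq 5 [0, 1] (Nat.land (fixM (stdT 0)) (fixM (stdT 1))) = true := by decide +kernel

theorem c3_reach :
    okReach c3Seq 13 [0, 1, 5] (Nat.land (Nat.land (fixM (stdT 0)) (fixM (stdT 1))) (fixM (stdT 2))) = true := by
  decide +kernel

theorem members_one : okMembers (fixM (stdT 0)) (List.range 697) 0 = true := by decide +kernel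

theorem members_two : okMembers (fixM (stdT 1 ++ stdT 0)) fixTwo 0 = true := by decide +kernel

theorem exact_three : Nat.beq (fixM (stdT 2 ++ stdT 1 ++ stdT 0)) (bitsOf fixThree) = true := by decide +kernel

theorem exact_four : Nat.beq (fixM (stdT 3 ++ stdT 2 ++ stdT 1 ++ stdT 0)) (bitsOf fixFour) = true := by decide +kernel

theorem lengths_fix : fixTwo.length = 697 ∧ fixThree.length = 696 ∧ fixFour.length = 504 := by decide +kernel

end CfsgLib.Spor.Fi24Invol
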