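import Cfsg.Agent.Lib.Spor.Fi24Invol.Pc
import Cfsg.Agent.Lib.Spor.Fi24Invol.Data

/-!
Checks of the 22 elements: tables, relations, orbits.
-/

set_option maxRecDepth 100000
set_option maxHeartbeats 0
set_option Elab.async false

namespace CfsgLib.Spor.Fi24Invol

open CfsgLib.BitPerm

/-- the data of the group of order `2 ^ 22` -/
noncomputable def pcData : PcData := ⟨sData, eT, qList, conjData, sqData, chainData⟩

/-- the tables of the 22 elements are the composed ones -/
noncomputable def okCompose : Bool :=
  allLt 22 fun k => force (eT.getD k 0) fun T => allLt 504 fun i =>
    Nat.beq (fld 16 T i) (appT basT (eW.getD k []) i)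

theorem compose_ok : okCompose = true := by decide +kernel

theorem conj_ok : allLt 22 (fun j => pcData.okConj j) = true := by decide +kernel

theorem sq_ok : pcData.okSq = true := by decide +kernel

theorem chain_ok : okChain eT [] chainData = true := by decide +kernel

theorem size_ok : (chainData.map fun p => p.2.length).prod = 2 ^ 22 := by decide +kernel

theorem qlt_ok : qList.all (fun i => Nat.blt i 504) = true := by decide +kernel

theorem basW_ok : basW.all (fun w => w.all fun n => Nat.blt n 12) = true := by decide +kernel

theorem eW_ok : eW.all (fun w => w.all fun n => Nat.blt n 34) = true := by decide +kernel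

end CfsgLib.Spor.Fi24Invol
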