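import Cfsg.Agent.Lib.Spor.Fi24Invol.DataLevels
import Cfsg.Agent.Lib.Spor.Fi24Invol.ChkPc

/-!
Checks of the representatives of involutions, level by level.
-/

set_option maxRecDepth 100000
set_option maxHeartbeats 0
set_option Elab.async false

namespace CfsgLib.Spor.Fi24Invol

theorem level0_ok : pcData.okLevel 0 (repData.getD 1 []) (repData.getD 0 []) certData0 = true := by
  decide +kernel

theorem level1_ok : pcData.okLevel 1 (repData.getD 2 []) (repData.getD 1 []) certData1 = true := by
  decide +kernel

theorem level2_ok : pcData.okLevel 2 (repData.getD 3 []) (repData.getD 2 []) certData2 = true := by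
  decide +kernel

theorem level3_ok : pcData.okLevel 3 (repData.getD 4 []) (repData.getD 3 []) certData3 = true := by
  decide +kernel

theorem level4_ok : pcData.okLevel 4 (repData.getD 5 []) (repData.getD 4 []) certData4 = true := by
  decide +kernel

theorem level5_ok : pcData.okLevel 5 (repData.getD 6 []) (repData.getD 5 []) certData5 = true := by
  decide +kernel

theorem level6_ok : pcData.okLevel 6 (repData.getD 7 []) (repData.getD 6 []) certData6 = true := by
  decide +kernel

theorem level7_ok : pcData.okLevel 7 (repData.getD 8 []) (repData.getD 7 []) certData7 = true := by
  decide +kernel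

theorem level8_ok : pcData.okLevel 8 (repData.getD 9 []) (repData.getD 8 []) certData8 = true := by
  decide +kernel

theorem level9_ok : pcData.okLevel 9 (repData.getD 10 []) (repData.getD 9 []) certData9 = true := by
  decide +kernel

theorem level10_ok : pcData.okLevel 10 (repData.getD 11 []) (repData.getD 10 []) certData10 = true := by
  decide +kernel

theorem level11_ok : pcData.okLevel 11 (repData.getD 12 []) (repData.getD 11 []) certData11 = true := by
  decide +kernel

theorem level12_ok : pcData.okLevel 12 (repData.getD 13 []) (repData.getD 12 []) certData12 = true := by
  decide +kernel

theorem level13_ok : pcData.okLevel 13 (repData.getD 14 []) (repData.getD 13 []) certData13 = true := by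
  decide +kernel

theorem level14_ok : pcData.okLevel 14 (repData.getD 15 []) (repData.getD 14 []) certData14 = true := by
  decide +kernel

theorem level15_ok : pcData.okLevel 15 (repData.getD 16 []) (repData.getD 15 []) certData15 = true := by
  decide +kernel

theorem level16_ok : pcData.okLevel 16 (repData.getD 17 []) (repData.getD 16 []) certData16 = true := by
  decide +kernel

theorem level17_ok : pcData.okLevel 17 (repData.getD 18 []) (repData.getD 17 []) certData17 = true := by
  decide +kernel

theorem level18_ok : pcData.okLevel 18 (repData.getD 19 []) (repData.getD 18 []) certData18 = true := by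
  decide +kernel

theorem level19_ok : pcData.okLevel 19 (repData.getD 20 []) (repData.getD 19 []) certData19 = true := by
  decide +kernel

theorem level20_ok : pcData.okLevel 20 (repData.getD 21 []) (repData.getD 20 []) certData20 = true := by
  decide +kernel

theorem level21_ok : pcData.okLevel 21 (repData.getD 22 []) (repData.getD 21 []) certData21 = true := by
  decide +kernel

theorem rep_start : repData.getD 0 [] = [0] := by decide +kernel

end CfsgLib.Spor.Fi24Invol
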