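import Cfsg.Agent.Lib.Spor.Fi24Invol.Check

/-!
Images of some points under the transpositions of some others, and derivations of transpositions from others
by conjugation.
-/

set_option autoImplicit false

namespace CfsgLib.Spor.Fi24Invol

open CfsgLib.BitPerm

/-- the listed images under the transposition word of a point given by its word -/
noncomputable def okPairs (w : List Nat) (pairs : List (Nat × Nat)) : Bool :=
  allLt 19 fun j => force (CfsgLib.BitPerm.Sys.actW Fi24.sys (w.reverse ++ 0 :: w) (plane j 19)) fun A =>
    pairs.all fun p => Bool.and (Nat.blt p.1 306936 && Nat.blt p.2 306936)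
      (Bool.rec (Nat.beq (Nat.land (Nat.shiftRight p.2 j) 1) 0) (Nat.beq (Nat.land (Nat.shiftRight p.2 j) 1) 1)
        (A.testBit p.1))

/-- the listed image of a point -/
noncomputable def lookup (pairs : List (Nat × Nat)) (a : Nat) : Nat :=
  List.rec 999999 (fun p _ r => Bool.rec r p.2 (Nat.beq p.1 a)) pairs

/-- the listed images, for some of the planes -/
noncomputable def okPairsPart (w : List Nat) (pairs : List (Nat × Nat)) (lo len : Nat) : Bool :=
  allLt len fun i => force (Nat.add lo i) fun j =>
    force (CfsgLib.BitPerm.Sys.actW Fi24.sys (w.reverse ++ 0 :: w) (plane j 19)) fun A =>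
      pairs.all fun p => Bool.and (Nat.blt p.1 306936 && Nat.blt p.2 306936)
        (Bool.rec (Nat.beq (Nat.land (Nat.shiftRight p.2 j) 1) 0) (Nat.beq (Nat.land (Nat.shiftRight p.2 j) 1) 1)
          (A.testBit p.1))

theorem allLt_intro {f : Nat → Bool} : ∀ {n : Nat}, (∀ i < n, f i = true) → allLt n f = true
  | 0, _ => rfl
  | n + 1, h => by
    show (allLt n f && f n) = true
    rw [allLt_intro fun i hi => h i (Nat.lt_succ_of_lt hi), h n (Nat.lt_succ_self n)]
    rfl

theorem okPairs_of_parts {w : List Nat} {pairs : List (Nat × Nat)} (h0 : okPairsPart w pairs 0 7 = true)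
    (h1 : okPairsPart w pairs 7 6 = true) (h2 : okPairsPart w pairs 13 6 = true) : okPairs w pairs = true := by
  refine allLt_intro fun j hj => ?_
  rcases lt_or_ge j 7 with h | h
  · have e := allLt_spec h0 j h
    rwa [force_eq, show Nat.add 0 j = j from Nat.zero_add j] at e
  rcases lt_or_ge j 13 with h' | h'
  · have e := allLt_spec h1 (j - 7) (by omega)
    rwa [force_eq, show Nat.add 7 (j - 7) = j from Nat.add_sub_cancel' h] at e
  · have e := allLt_spec h2 (j - 13) (by omega)
    rwa [force_eq, show Nat.add 13 (j - 13) = j from Nat.add_sub_cancel' h'] at e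

/-- derivation steps `(a, b, c)`: the transposition at the end of word `a` moves `b` to `c` -/
noncomputable def okDerive : List (List Nat × Nat × Nat) → List Nat → List Nat → Bool
  | [], known, target => target.all fun t => known.any fun k => Nat.beq k t
  | (w, b, c) :: st, known, target =>
    ((((w.all fun n => Nat.blt n 12) && Nat.beq (CfsgLib.BitPerm.Sys.ptW Fi24.sys (w.reverse ++ 0 :: w) b) c) &&
      known.any fun k => Nat.beq k b) &&
      known.any fun k => Nat.beq k (CfsgLib.BitPerm.Sys.ptW Fi24.sys w 0)) && okDerive st (c :: known) target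

end CfsgLib.Spor.Fi24Invol
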