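import Cfsg.Agent.Lib.Spor.Fi24Invol.DataWit
import Cfsg.Agent.Lib.Spor.Fi24Invol.Pairs

/-!
Checks of images under transpositions.
-/

set_option maxRecDepth 100000
set_option maxHeartbeats 0
set_option Elab.async false

namespace CfsgLib.Spor.Fi24Invol

open CfsgLib.BitPerm

theorem q0a_ok : okPairsPart (qWords.getD 0 []) (qPairs.getD 0 []) 0 7 = true := by decide +kernel

theorem q0b_ok : okPairsPart (qWords.getD 0 []) (qPairs.getD 0 []) 7 6 = true := by decide +kernel

theorem q0c_ok : okPairsPart (qWords.getD 0 []) (qPairs.getD 0 []) 13 6 = true := by decide +kernel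

theorem q1a_ok : okPairsPart (qWords.getD 1 []) (qPairs.getD 1 []) 0 7 = true := by decide +kernel

theorem q1b_ok : okPairsPart (qWords.getD 1 []) (qPairs.getD 1 []) 7 6 = true := by decide +kernel

theorem q1c_ok : okPairsPart (qWords.getD 1 []) (qPairs.getD 1 []) 13 6 = true := by decide +kernel

theorem q2a_ok : okPairsPart (qWords.getD 2 []) (qPairs.getD 2 []) 0 7 = true := by decide +kernel

theorem q2b_ok : okPairsPart (qWords.getD 2 []) (qPairs.getD 2 []) 7 6 = true := by decide +kernel

theorem q2c_ok : okPairsPart (qWords.getD 2 []) (qPairs.getD 2 []) 13 6 = true := by decide +kernel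

theorem q3a_ok : okPairsPart (qWords.getD 3 []) (qPairs.getD 3 []) 0 7 = true := by decide +kernel

theorem q3b_ok : okPairsPart (qWords.getD 3 []) (qPairs.getD 3 []) 7 6 = true := by decide +kernel

theorem q3c_ok : okPairsPart (qWords.getD 3 []) (qPairs.getD 3 []) 13 6 = true := by decide +kernel

theorem q4a_ok : okPairsPart (qWords.getD 4 []) (qPairs.getD 4 []) 0 7 = true := by decide +kernel

theorem q4b_ok : okPairsPart (qWords.getD 4 []) (qPairs.getD 4 []) 7 6 = true := by decide +kernel

theorem q4c_ok : okPairsPart (qWords.getD 4 []) (qPairs.getD 4 []) 13 6 = true := by decide +kernel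

theorem q5a_ok : okPairsPart (qWords.getD 5 []) (qPairs.getD 5 []) 0 7 = true := by decide +kernel

theorem q5b_ok : okPairsPart (qWords.getD 5 []) (qPairs.getD 5 []) 7 6 = true := by decide +kernel

theorem q5c_ok : okPairsPart (qWords.getD 5 []) (qPairs.getD 5 []) 13 6 = true := by decide +kernel

theorem q6a_ok : okPairsPart (qWords.getD 6 []) (qPairs.getD 6 []) 0 7 = true := by decide +kernel

theorem q6b_ok : okPairsPart (qWords.getD 6 []) (qPairs.getD 6 []) 7 6 = true := by decide +kernel

theorem q6c_ok : okPairsPart (qWords.getD 6 []) (qPairs.getD 6 []) 13 6 = true := by decide +kernel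

theorem q7a_ok : okPairsPart (qWords.getD 7 []) (qPairs.getD 7 []) 0 7 = true := by decide +kernel

theorem q7b_ok : okPairsPart (qWords.getD 7 []) (qPairs.getD 7 []) 7 6 = true := by decide +kernel

theorem q7c_ok : okPairsPart (qWords.getD 7 []) (qPairs.getD 7 []) 13 6 = true := by decide +kernel

theorem q8a_ok : okPairsPart (qWords.getD 8 []) (qPairs.getD 8 []) 0 7 = true := by decide +kernel

theorem q8b_ok : okPairsPart (qWords.getD 8 []) (qPairs.getD 8 []) 7 6 = true := by decide +kernel

theorem q8c_ok : okPairsPart (qWords.getD 8 []) (qPairs.getD 8 []) 13 6 = true := by decide +kernel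

theorem q9a_ok : okPairsPart (qWords.getD 9 []) (qPairs.getD 9 []) 0 7 = true := by decide +kernel

theorem q9b_ok : okPairsPart (qWords.getD 9 []) (qPairs.getD 9 []) 7 6 = true := by decide +kernel

theorem q9c_ok : okPairsPart (qWords.getD 9 []) (qPairs.getD 9 []) 13 6 = true := by decide +kernel

theorem q10a_ok : okPairsPart (qWords.getD 10 []) (qPairs.getD 10 []) 0 7 = true := by decide +kernel

theorem q10b_ok : okPairsPart (qWords.getD 10 []) (qPairs.getD 10 []) 7 6 = true := by decide +kernel

theorem q10c_ok : okPairsPart (qWords.getD 10 []) (qPairs.getD 10 []) 13 6 = true := by decide +kernel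

theorem q11a_ok : okPairsPart (qWords.getD 11 []) (qPairs.getD 11 []) 0 7 = true := by decide +kernel

theorem q11b_ok : okPairsPart (qWords.getD 11 []) (qPairs.getD 11 []) 7 6 = true := by decide +kernel

theorem q11c_ok : okPairsPart (qWords.getD 11 []) (qPairs.getD 11 []) 13 6 = true := by decide +kernel

theorem q12a_ok : okPairsPart (qWords.getD 12 []) (qPairs.getD 12 []) 0 7 = true := by decide +kernel

theorem q12b_ok : okPairsPart (qWords.getD 12 []) (qPairs.getD 12 []) 7 6 = true := by decide +kernel

theorem q12c_ok : okPairsPart (qWords.getD 12 []) (qPairs.getD 12 []) 13 6 = true := by decide +kernel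

theorem q13a_ok : okPairsPart (qWords.getD 13 []) (qPairs.getD 13 []) 0 7 = true := by decide +kernel

theorem q13b_ok : okPairsPart (qWords.getD 13 []) (qPairs.getD 13 []) 7 6 = true := by decide +kernel

theorem q13c_ok : okPairsPart (qWords.getD 13 []) (qPairs.getD 13 []) 13 6 = true := by decide +kernel

theorem q14a_ok : okPairsPart (qWords.getD 14 []) (qPairs.getD 14 []) 0 7 = true := by decide +kernel

theorem q14b_ok : okPairsPart (qWords.getD 14 []) (qPairs.getD 14 []) 7 6 = true := by decide +kernel

theorem q14c_ok : okPairsPart (qWords.getD 14 []) (qPairs.getD 14 []) 13 6 = true := by decide +kernel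

theorem q15a_ok : okPairsPart (qWords.getD 15 []) (qPairs.getD 15 []) 0 7 = true := by decide +kernel

theorem q15b_ok : okPairsPart (qWords.getD 15 []) (qPairs.getD 15 []) 7 6 = true := by decide +kernel

theorem q15c_ok : okPairsPart (qWords.getD 15 []) (qPairs.getD 15 []) 13 6 = true := by decide +kernel

theorem q16a_ok : okPairsPart (qWords.getD 16 []) (qPairs.getD 16 []) 0 7 = true := by decide +kernel

theorem q16b_ok : okPairsPart (qWords.getD 16 []) (qPairs.getD 16 []) 7 6 = true := by decide +kernel

theorem q16c_ok : okPairsPart (qWords.getD 16 []) (qPairs.getD 16 []) 13 6 = true := by decide +kernel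

theorem q17a_ok : okPairsPart (qWords.getD 17 []) (qPairs.getD 17 []) 0 7 = true := by decide +kernel

theorem q17b_ok : okPairsPart (qWords.getD 17 []) (qPairs.getD 17 []) 7 6 = true := by decide +kernel

theorem q17c_ok : okPairsPart (qWords.getD 17 []) (qPairs.getD 17 []) 13 6 = true := by decide +kernel

theorem q18a_ok : okPairsPart (qWords.getD 18 []) (qPairs.getD 18 []) 0 7 = true := by decide +kernel

theorem q18b_ok : okPairsPart (qWords.getD 18 []) (qPairs.getD 18 []) 7 6 = true := by decide +kernel

theorem q18c_ok : okPairsPart (qWords.getD 18 []) (qPairs.getD 18 []) 13 6 = true := by decide +kernel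

theorem q19a_ok : okPairsPart (qWords.getD 19 []) (qPairs.getD 19 []) 0 7 = true := by decide +kernel

theorem q19b_ok : okPairsPart (qWords.getD 19 []) (qPairs.getD 19 []) 7 6 = true := by decide +kernel

theorem q19c_ok : okPairsPart (qWords.getD 19 []) (qPairs.getD 19 []) 13 6 = true := by decide +kernel

theorem q20a_ok : okPairsPart (qWords.getD 20 []) (qPairs.getD 20 []) 0 7 = true := by decide +kernel

theorem q20b_ok : okPairsPart (qWords.getD 20 []) (qPairs.getD 20 []) 7 6 = true := by decide +kernel

theorem q20c_ok : okPairsPart (qWords.getD 20 []) (qPairs.getD 20 []) 13 6 = true := by decide +kernel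

theorem pairs0_ok : ∀ k, 0 ≤ k → k < 21 → okPairs (qWords.getD k []) (qPairs.getD k []) = true := by
  intro k h1 h2
  interval_cases k
  · exact okPairs_of_parts q0a_ok q0b_ok q0c_ok
  · exact okPairs_of_parts q1a_ok q1b_ok q1c_ok
  · exact okPairs_of_parts q2a_ok q2b_ok q2c_ok
  · exact okPairs_of_parts q3a_ok q3b_ok q3c_ok
  · exact okPairs_of_parts q4a_ok q4b_ok q4c_ok
  · exact okPairs_of_parts q5a_ok q5b_ok q5c_ok
  · exact okPairs_of_parts q6a_ok q6b_ok q6c_ok
  · exact okPairs_of_parts q7a_ok q7b_ok q7c_ok
  · exact okPairs_of_parts q8a_ok q8b_ok q8c_ok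
  · exact okPairs_of_parts q9a_ok q9b_ok q9c_ok
  · exact okPairs_of_parts q10a_ok q10b_ok q10c_ok
  · exact okPairs_of_parts q11a_ok q11b_ok q11c_ok
  · exact okPairs_of_parts q12a_ok q12b_ok q12c_ok
  · exact okPairs_of_parts q13a_ok q13b_ok q13c_ok
  · exact okPairs_of_parts q14a_ok q14b_ok q14c_ok
  · exact okPairs_of_parts q15a_ok q15b_ok q15c_ok
  · exact okPairs_of_parts q16a_ok q16b_ok q16c_ok
  · exact okPairs_of_parts q17a_ok q17b_ok q17c_ok
  · exact okPairs_of_parts q18a_ok q18b_ok q18c_ok
  · exact okPairs_of_parts q19a_ok q19b_ok q19c_ok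
  · exact okPairs_of_parts q20a_ok q20b_ok q20c_ok

end CfsgLib.Spor.Fi24Invol
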