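import Cfsg.Agent.Lib.Spor.Fi24Invol.DataWit
import Cfsg.Agent.Lib.Spor.Fi24Invol.Pairs

/-!
Checks of images under transpositions.
-/

set_option maxRecDepth 100000
set_option maxHeartbeats 0
set_option Elab.async false

namespace CfsgLib.Spor.Fi24Invol

open CfsgLib.BitPerm

theorem q21a_ok : okPairsPart (qWords.getD 21 []) (qPairs.getD 21 []) 0 7 = true := by decide +kernel

theorem q21b_ok : okPairsPart (qWords.getD 21 []) (qPairs.getD 21 []) 7 6 = true := by decide +kernel

theorem q21c_ok : okPairsPart (qWords.getD 21 []) (qPairs.getD 21 []) 13 6 = true := by decide +kernel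

theorem q22a_ok : okPairsPart (qWords.getD 22 []) (qPairs.getD 22 []) 0 7 = true := by decide +kernel

theorem q22b_ok : okPairsPart (qWords.getD 22 []) (qPairs.getD 22 []) 7 6 = true := by decide +kernel

theorem q22c_ok : okPairsPart (qWords.getD 22 []) (qPairs.getD 22 []) 13 6 = true := by decide +kernel

theorem q23a_ok : okPairsPart (qWords.getD 23 []) (qPairs.getD 23 []) 0 7 = true := by decide +kernel

theorem q23b_ok : okPairsPart (qWords.getD 23 []) (qPairs.getD 23 []) 7 6 = true := by decide +kernel

theorem q23c_ok : okPairsPart (qWords.getD 23 []) (qPairs.getD 23 []) 13 6 = true := by decide +kernel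

theorem q24a_ok : okPairsPart (qWords.getD 24 []) (qPairs.getD 24 []) 0 7 = true := by decide +kernel

theorem q24b_ok : okPairsPart (qWords.getD 24 []) (qPairs.getD 24 []) 7 6 = true := by decide +kernel

theorem q24c_ok : okPairsPart (qWords.getD 24 []) (qPairs.getD 24 []) 13 6 = true := by decide +kernel

theorem q25a_ok : okPairsPart (qWords.getD 25 []) (qPairs.getD 25 []) 0 7 = true := by decide +kernel

theorem q25b_ok : okPairsPart (qWords.getD 25 []) (qPairs.getD 25 []) 7 6 = true := by decide +kernel

theorem q25c_ok : okPairsPart (qWords.getD 25 []) (qPairs.getD 25 []) 13 6 = true := by decide +kernel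

theorem q26a_ok : okPairsPart (qWords.getD 26 []) (qPairs.getD 26 []) 0 7 = true := by decide +kernel

theorem q26b_ok : okPairsPart (qWords.getD 26 []) (qPairs.getD 26 []) 7 6 = true := by decide +kernel

theorem q26c_ok : okPairsPart (qWords.getD 26 []) (qPairs.getD 26 []) 13 6 = true := by decide +kernel

theorem q27a_ok : okPairsPart (qWords.getD 27 []) (qPairs.getD 27 []) 0 7 = true := by decide +kernel

theorem q27b_ok : okPairsPart (qWords.getD 27 []) (qPairs.getD 27 []) 7 6 = true := by decide +kernel

theorem q27c_ok : okPairsPart (qWords.getD 27 []) (qPairs.getD 27 []) 13 6 = true := by decide +kernel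

theorem q28a_ok : okPairsPart (qWords.getD 28 []) (qPairs.getD 28 []) 0 7 = true := by decide +kernel

theorem q28b_ok : okPairsPart (qWords.getD 28 []) (qPairs.getD 28 []) 7 6 = true := by decide +kernel

theorem q28c_ok : okPairsPart (qWords.getD 28 []) (qPairs.getD 28 []) 13 6 = true := by decide +kernel

theorem q29a_ok : okPairsPart (qWords.getD 29 []) (qPairs.getD 29 []) 0 7 = true := by decide +kernel

theorem q29b_ok : okPairsPart (qWords.getD 29 []) (qPairs.getD 29 []) 7 6 = true := by decide +kernel

theorem q29c_ok : okPairsPart (qWords.getD 29 []) (qPairs.getD 29 []) 13 6 = true := by decide +kernel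

theorem q30a_ok : okPairsPart (qWords.getD 30 []) (qPairs.getD 30 []) 0 7 = true := by decide +kernel

theorem q30b_ok : okPairsPart (qWords.getD 30 []) (qPairs.getD 30 []) 7 6 = true := by decide +kernel

theorem q30c_ok : okPairsPart (qWords.getD 30 []) (qPairs.getD 30 []) 13 6 = true := by decide +kernel

theorem q31a_ok : okPairsPart (qWords.getD 31 []) (qPairs.getD 31 []) 0 7 = true := by decide +kernel

theorem q31b_ok : okPairsPart (qWords.getD 31 []) (qPairs.getD 31 []) 7 6 = true := by decide +kernel

theorem q31c_ok : okPairsPart (qWords.getD 31 []) (qPairs.getD 31 []) 13 6 = true := by decide +kernel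

theorem q32a_ok : okPairsPart (qWords.getD 32 []) (qPairs.getD 32 []) 0 7 = true := by decide +kernel

theorem q32b_ok : okPairsPart (qWords.getD 32 []) (qPairs.getD 32 []) 7 6 = true := by decide +kernel

theorem q32c_ok : okPairsPart (qWords.getD 32 []) (qPairs.getD 32 []) 13 6 = true := by decide +kernel

theorem q33a_ok : okPairsPart (qWords.getD 33 []) (qPairs.getD 33 []) 0 7 = true := by decide +kernel

theorem q33b_ok : okPairsPart (qWords.getD 33 []) (qPairs.getD 33 []) 7 6 = true := by decide +kernel

theorem q33c_ok : okPairsPart (qWords.getD 33 []) (qPairs.getD 33 []) 13 6 = true := by decide +kernel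

theorem q34a_ok : okPairsPart (qWords.getD 34 []) (qPairs.getD 34 []) 0 7 = true := by decide +kernel

theorem q34b_ok : okPairsPart (qWords.getD 34 []) (qPairs.getD 34 []) 7 6 = true := by decide +kernel

theorem q34c_ok : okPairsPart (qWords.getD 34 []) (qPairs.getD 34 []) 13 6 = true := by decide +kernel

theorem q35a_ok : okPairsPart (qWords.getD 35 []) (qPairs.getD 35 []) 0 7 = true := by decide +kernel

theorem q35b_ok : okPairsPart (qWords.getD 35 []) (qPairs.getD 35 []) 7 6 = true := by decide +kernel

theorem q35c_ok : okPairsPart (qWords.getD 35 []) (qPairs.getD 35 []) 13 6 = true := by decide +kernel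

theorem q36a_ok : okPairsPart (qWords.getD 36 []) (qPairs.getD 36 []) 0 7 = true := by decide +kernel

theorem q36b_ok : okPairsPart (qWords.getD 36 []) (qPairs.getD 36 []) 7 6 = true := by decide +kernel

theorem q36c_ok : okPairsPart (qWords.getD 36 []) (qPairs.getD 36 []) 13 6 = true := by decide +kernel

theorem q37a_ok : okPairsPart (qWords.getD 37 []) (qPairs.getD 37 []) 0 7 = true := by decide +kernel

theorem q37b_ok : okPairsPart (qWords.getD 37 []) (qPairs.getD 37 []) 7 6 = true := by decide +kernel

theorem q37c_ok : okPairsPart (qWords.getD 37 []) (qPairs.getD 37 []) 13 6 = true := by decide +kernel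

theorem q38a_ok : okPairsPart (qWords.getD 38 []) (qPairs.getD 38 []) 0 7 = true := by decide +kernel

theorem q38b_ok : okPairsPart (qWords.getD 38 []) (qPairs.getD 38 []) 7 6 = true := by decide +kernel

theorem q38c_ok : okPairsPart (qWords.getD 38 []) (qPairs.getD 38 []) 13 6 = true := by decide +kernel

theorem q39a_ok : okPairsPart (qWords.getD 39 []) (qPairs.getD 39 []) 0 7 = true := by decide +kernel

theorem q39b_ok : okPairsPart (qWords.getD 39 []) (qPairs.getD 39 []) 7 6 = true := by decide +kernel

theorem q39c_ok : okPairsPart (qWords.getD 39 []) (qPairs.getD 39 []) 13 6 = true := by decide +kernel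

theorem q40a_ok : okPairsPart (qWords.getD 40 []) (qPairs.getD 40 []) 0 7 = true := by decide +kernel

theorem q40b_ok : okPairsPart (qWords.getD 40 []) (qPairs.getD 40 []) 7 6 = true := by decide +kernel

theorem q40c_ok : okPairsPart (qWords.getD 40 []) (qPairs.getD 40 []) 13 6 = true := by decide +kernel

theorem pairs1_ok : ∀ k, 21 ≤ k → k < 41 → okPairs (qWords.getD k []) (qPairs.getD k []) = true := by
  intro k h1 h2
  interval_cases k
  · exact okPairs_of_parts q21a_ok q21b_ok q21c_ok
  · exact okPairs_of_parts q22a_ok q22b_ok q22c_ok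
  · exact okPairs_of_parts q23a_ok q23b_ok q23c_ok
  · exact okPairs_of_parts q24a_ok q24b_ok q24c_ok
  · exact okPairs_of_parts q25a_ok q25b_ok q25c_ok
  · exact okPairs_of_parts q26a_ok q26b_ok q26c_ok
  · exact okPairs_of_parts q27a_ok q27b_ok q27c_ok
  · exact okPairs_of_parts q28a_ok q28b_ok q28c_ok
  · exact okPairs_of_parts q29a_ok q29b_ok q29c_ok
  · exact okPairs_of_parts q30a_ok q30b_ok q30c_ok
  · exact okPairs_of_parts q31a_ok q31b_ok q31c_ok
  · exact okPairs_of_parts q32a_ok q32b_ok q32c_ok
  · exact okPairs_of_parts q33a_ok q33b_ok q33c_ok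
  · exact okPairs_of_parts q34a_ok q34b_ok q34c_ok
  · exact okPairs_of_parts q35a_ok q35b_ok q35c_ok
  · exact okPairs_of_parts q36a_ok q36b_ok q36c_ok
  · exact okPairs_of_parts q37a_ok q37b_ok q37c_ok
  · exact okPairs_of_parts q38a_ok q38b_ok q38c_ok
  · exact okPairs_of_parts q39a_ok q39b_ok q39c_ok
  · exact okPairs_of_parts q40a_ok q40b_ok q40c_ok

end CfsgLib.Spor.Fi24Invol
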