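import Cfsg.Agent.Lib.Spor.Fi24Invol.DataWit
import Cfsg.Agent.Lib.Spor.Fi24Invol.Pairs

/-!
Checks of images under transpositions.
-/

set_option maxRecDepth 100000
set_option maxHeartbeats 0
set_option Elab.async false

namespace CfsgLib.Spor.Fi24Invol

open CfsgLib.BitPerm

theorem q41a_ok : okPairsPart (qWords.getD 41 []) (qPairs.getD 41 []) 0 7 = true := by decide +kernel

theorem q41b_ok : okPairsPart (qWords.getD 41 []) (qPairs.getD 41 []) 7 6 = true := by decide +kernel

theorem q41c_ok : okPairsPart (qWords.getD 41 []) (qPairs.getD 41 []) 13 6 = true := by decide +kernel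

theorem q42a_ok : okPairsPart (qWords.getD 42 []) (qPairs.getD 42 []) 0 7 = true := by decide +kernel

theorem q42b_ok : okPairsPart (qWords.getD 42 []) (qPairs.getD 42 []) 7 6 = true := by decide +kernel

theorem q42c_ok : okPairsPart (qWords.getD 42 []) (qPairs.getD 42 []) 13 6 = true := by decide +kernel

theorem q43a_ok : okPairsPart (qWords.getD 43 []) (qPairs.getD 43 []) 0 7 = true := by decide +kernel

theorem q43b_ok : okPairsPart (qWords.getD 43 []) (qPairs.getD 43 []) 7 6 = true := by decide +kernel

theorem q43c_ok : okPairsPart (qWords.getD 43 []) (qPairs.getD 43 []) 13 6 = true := by decide +kernel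

theorem q44a_ok : okPairsPart (qWords.getD 44 []) (qPairs.getD 44 []) 0 7 = true := by decide +kernel

theorem q44b_ok : okPairsPart (qWords.getD 44 []) (qPairs.getD 44 []) 7 6 = true := by decide +kernel

theorem q44c_ok : okPairsPart (qWords.getD 44 []) (qPairs.getD 44 []) 13 6 = true := by decide +kernel

theorem q45a_ok : okPairsPart (qWords.getD 45 []) (qPairs.getD 45 []) 0 7 = true := by decide +kernel

theorem q45b_ok : okPairsPart (qWords.getD 45 []) (qPairs.getD 45 []) 7 6 = true := by decide +kernel

theorem q45c_ok : okPairsPart (qWords.getD 45 []) (qPairs.getD 45 []) 13 6 = true := by decide +kernel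

theorem q46a_ok : okPairsPart (qWords.getD 46 []) (qPairs.getD 46 []) 0 7 = true := by decide +kernel

theorem q46b_ok : okPairsPart (qWords.getD 46 []) (qPairs.getD 46 []) 7 6 = true := by decide +kernel

theorem q46c_ok : okPairsPart (qWords.getD 46 []) (qPairs.getD 46 []) 13 6 = true := by decide +kernel

theorem q47a_ok : okPairsPart (qWords.getD 47 []) (qPairs.getD 47 []) 0 7 = true := by decide +kernel

theorem q47b_ok : okPairsPart (qWords.getD 47 []) (qPairs.getD 47 []) 7 6 = true := by decide +kernel

theorem q47c_ok : okPairsPart (qWords.getD 47 []) (qPairs.getD 47 []) 13 6 = true := by decide +kernel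

theorem q48a_ok : okPairsPart (qWords.getD 48 []) (qPairs.getD 48 []) 0 7 = true := by decide +kernel

theorem q48b_ok : okPairsPart (qWords.getD 48 []) (qPairs.getD 48 []) 7 6 = true := by decide +kernel

theorem q48c_ok : okPairsPart (qWords.getD 48 []) (qPairs.getD 48 []) 13 6 = true := by decide +kernel

theorem q49a_ok : okPairsPart (qWords.getD 49 []) (qPairs.getD 49 []) 0 7 = true := by decide +kernel

theorem q49b_ok : okPairsPart (qWords.getD 49 []) (qPairs.getD 49 []) 7 6 = true := by decide +kernel

theorem q49c_ok : okPairsPart (qWords.getD 49 []) (qPairs.getD 49 []) 13 6 = true := by decide +kernel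

theorem q50a_ok : okPairsPart (qWords.getD 50 []) (qPairs.getD 50 []) 0 7 = true := by decide +kernel

theorem q50b_ok : okPairsPart (qWords.getD 50 []) (qPairs.getD 50 []) 7 6 = true := by decide +kernel

theorem q50c_ok : okPairsPart (qWords.getD 50 []) (qPairs.getD 50 []) 13 6 = true := by decide +kernel

theorem q51a_ok : okPairsPart (qWords.getD 51 []) (qPairs.getD 51 []) 0 7 = true := by decide +kernel

theorem q51b_ok : okPairsPart (qWords.getD 51 []) (qPairs.getD 51 []) 7 6 = true := by decide +kernel

theorem q51c_ok : okPairsPart (qWords.getD 51 []) (qPairs.getD 51 []) 13 6 = true := by decide +kernel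

theorem q52a_ok : okPairsPart (qWords.getD 52 []) (qPairs.getD 52 []) 0 7 = true := by decide +kernel

theorem q52b_ok : okPairsPart (qWords.getD 52 []) (qPairs.getD 52 []) 7 6 = true := by decide +kernel

theorem q52c_ok : okPairsPart (qWords.getD 52 []) (qPairs.getD 52 []) 13 6 = true := by decide +kernel

theorem q53a_ok : okPairsPart (qWords.getD 53 []) (qPairs.getD 53 []) 0 7 = true := by decide +kernel

theorem q53b_ok : okPairsPart (qWords.getD 53 []) (qPairs.getD 53 []) 7 6 = true := by decide +kernel

theorem q53c_ok : okPairsPart (qWords.getD 53 []) (qPairs.getD 53 []) 13 6 = true := by decide +kernel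

theorem q54a_ok : okPairsPart (qWords.getD 54 []) (qPairs.getD 54 []) 0 7 = true := by decide +kernel

theorem q54b_ok : okPairsPart (qWords.getD 54 []) (qPairs.getD 54 []) 7 6 = true := by decide +kernel

theorem q54c_ok : okPairsPart (qWords.getD 54 []) (qPairs.getD 54 []) 13 6 = true := by decide +kernel

theorem q55a_ok : okPairsPart (qWords.getD 55 []) (qPairs.getD 55 []) 0 7 = true := by decide +kernel

theorem q55b_ok : okPairsPart (qWords.getD 55 []) (qPairs.getD 55 []) 7 6 = true := by decide +kernel

theorem q55c_ok : okPairsPart (qWords.getD 55 []) (qPairs.getD 55 []) 13 6 = true := by decide +kernel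

theorem q56a_ok : okPairsPart (qWords.getD 56 []) (qPairs.getD 56 []) 0 7 = true := by decide +kernel

theorem q56b_ok : okPairsPart (qWords.getD 56 []) (qPairs.getD 56 []) 7 6 = true := by decide +kernel

theorem q56c_ok : okPairsPart (qWords.getD 56 []) (qPairs.getD 56 []) 13 6 = true := by decide +kernel

theorem q57a_ok : okPairsPart (qWords.getD 57 []) (qPairs.getD 57 []) 0 7 = true := by decide +kernel

theorem q57b_ok : okPairsPart (qWords.getD 57 []) (qPairs.getD 57 []) 7 6 = true := by decide +kernel

theorem q57c_ok : okPairsPart (qWords.getD 57 []) (qPairs.getD 57 []) 13 6 = true := by decide +kernel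

theorem q58a_ok : okPairsPart (qWords.getD 58 []) (qPairs.getD 58 []) 0 7 = true := by decide +kernel

theorem q58b_ok : okPairsPart (qWords.getD 58 []) (qPairs.getD 58 []) 7 6 = true := by decide +kernel

theorem q58c_ok : okPairsPart (qWords.getD 58 []) (qPairs.getD 58 []) 13 6 = true := by decide +kernel

theorem q59a_ok : okPairsPart (qWords.getD 59 []) (qPairs.getD 59 []) 0 7 = true := by decide +kernel

theorem q59b_ok : okPairsPart (qWords.getD 59 []) (qPairs.getD 59 []) 7 6 = true := by decide +kernel

theorem q59c_ok : okPairsPart (qWords.getD 59 []) (qPairs.getD 59 []) 13 6 = true := by decide +kernel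

theorem q60a_ok : okPairsPart (qWords.getD 60 []) (qPairs.getD 60 []) 0 7 = true := by decide +kernel

theorem q60b_ok : okPairsPart (qWords.getD 60 []) (qPairs.getD 60 []) 7 6 = true := by decide +kernel

theorem q60c_ok : okPairsPart (qWords.getD 60 []) (qPairs.getD 60 []) 13 6 = true := by decide +kernel

theorem pairs2_ok : ∀ k, 41 ≤ k → k < 61 → okPairs (qWords.getD k []) (qPairs.getD k []) = true := by
  intro k h1 h2
  interval_cases k
  · exact okPairs_of_parts q41a_ok q41b_ok q41c_ok
  · exact okPairs_of_parts q42a_ok q42b_ok q42c_ok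
  · exact okPairs_of_parts q43a_ok q43b_ok q43c_ok
  · exact okPairs_of_parts q44a_ok q44b_ok q44c_ok
  · exact okPairs_of_parts q45a_ok q45b_ok q45c_ok
  · exact okPairs_of_parts q46a_ok q46b_ok q46c_ok
  · exact okPairs_of_parts q47a_ok q47b_ok q47c_ok
  · exact okPairs_of_parts q48a_ok q48b_ok q48c_ok
  · exact okPairs_of_parts q49a_ok q49b_ok q49c_ok
  · exact okPairs_of_parts q50a_ok q50b_ok q50c_ok
  · exact okPairs_of_parts q51a_ok q51b_ok q51c_ok
  · exact okPairs_of_parts q52a_ok q52b_ok q52c_ok
  · exact okPairs_of_parts q53a_ok q53b_ok q53c_ok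
  · exact okPairs_of_parts q54a_ok q54b_ok q54c_ok
  · exact okPairs_of_parts q55a_ok q55b_ok q55c_ok
  · exact okPairs_of_parts q56a_ok q56b_ok q56c_ok
  · exact okPairs_of_parts q57a_ok q57b_ok q57c_ok
  · exact okPairs_of_parts q58a_ok q58b_ok q58c_ok
  · exact okPairs_of_parts q59a_ok q59b_ok q59c_ok
  · exact okPairs_of_parts q60a_ok q60b_ok q60c_ok

end CfsgLib.Spor.Fi24Invol
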