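import Cfsg.Agent.Lib.Spor.Fi24Invol.DataWit
import Cfsg.Agent.Lib.Spor.Fi24Invol.Pairs

/-!
Checks of images under transpositions.
-/

set_option maxRecDepth 100000
set_option maxHeartbeats 0
set_option Elab.async false

namespace CfsgLib.Spor.Fi24Invol

open CfsgLib.BitPerm

theorem q61a_ok : okPairsPart (qWords.getD 61 []) (qPairs.getD 61 []) 0 7 = true := by decide +kernel

theorem q61b_ok : okPairsPart (qWords.getD 61 []) (qPairs.getD 61 []) 7 6 = true := by decide +kernel

theorem q61c_ok : okPairsPart (qWords.getD 61 []) (qPairs.getD 61 []) 13 6 = true := by decide +kernel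

theorem q62a_ok : okPairsPart (qWords.getD 62 []) (qPairs.getD 62 []) 0 7 = true := by decide +kernel

theorem q62b_ok : okPairsPart (qWords.getD 62 []) (qPairs.getD 62 []) 7 6 = true := by decide +kernel

theorem q62c_ok : okPairsPart (qWords.getD 62 []) (qPairs.getD 62 []) 13 6 = true := by decide +kernel

theorem q63a_ok : okPairsPart (qWords.getD 63 []) (qPairs.getD 63 []) 0 7 = true := by decide +kernel

theorem q63b_ok : okPairsPart (qWords.getD 63 []) (qPairs.getD 63 []) 7 6 = true := by decide +kernel

theorem q63c_ok : okPairsPart (qWords.getD 63 []) (qPairs.getD 63 []) 13 6 = true := by decide +kernel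

theorem q64a_ok : okPairsPart (qWords.getD 64 []) (qPairs.getD 64 []) 0 7 = true := by decide +kernel

theorem q64b_ok : okPairsPart (qWords.getD 64 []) (qPairs.getD 64 []) 7 6 = true := by decide +kernel

theorem q64c_ok : okPairsPart (qWords.getD 64 []) (qPairs.getD 64 []) 13 6 = true := by decide +kernel

theorem q65a_ok : okPairsPart (qWords.getD 65 []) (qPairs.getD 65 []) 0 7 = true := by decide +kernel

theorem q65b_ok : okPairsPart (qWords.getD 65 []) (qPairs.getD 65 []) 7 6 = true := by decide +kernel

theorem q65c_ok : okPairsPart (qWords.getD 65 []) (qPairs.getD 65 []) 13 6 = true := by decide +kernel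

theorem q66a_ok : okPairsPart (qWords.getD 66 []) (qPairs.getD 66 []) 0 7 = true := by decide +kernel

theorem q66b_ok : okPairsPart (qWords.getD 66 []) (qPairs.getD 66 []) 7 6 = true := by decide +kernel

theorem q66c_ok : okPairsPart (qWords.getD 66 []) (qPairs.getD 66 []) 13 6 = true := by decide +kernel

theorem q67a_ok : okPairsPart (qWords.getD 67 []) (qPairs.getD 67 []) 0 7 = true := by decide +kernel

theorem q67b_ok : okPairsPart (qWords.getD 67 []) (qPairs.getD 67 []) 7 6 = true := by decide +kernel

theorem q67c_ok : okPairsPart (qWords.getD 67 []) (qPairs.getD 67 []) 13 6 = true := by decide +kernel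

theorem q68a_ok : okPairsPart (qWords.getD 68 []) (qPairs.getD 68 []) 0 7 = true := by decide +kernel

theorem q68b_ok : okPairsPart (qWords.getD 68 []) (qPairs.getD 68 []) 7 6 = true := by decide +kernel

theorem q68c_ok : okPairsPart (qWords.getD 68 []) (qPairs.getD 68 []) 13 6 = true := by decide +kernel

theorem q69a_ok : okPairsPart (qWords.getD 69 []) (qPairs.getD 69 []) 0 7 = true := by decide +kernel

theorem q69b_ok : okPairsPart (qWords.getD 69 []) (qPairs.getD 69 []) 7 6 = true := by decide +kernel

theorem q69c_ok : okPairsPart (qWords.getD 69 []) (qPairs.getD 69 []) 13 6 = true := by decide +kernel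

theorem q70a_ok : okPairsPart (qWords.getD 70 []) (qPairs.getD 70 []) 0 7 = true := by decide +kernel

theorem q70b_ok : okPairsPart (qWords.getD 70 []) (qPairs.getD 70 []) 7 6 = true := by decide +kernel

theorem q70c_ok : okPairsPart (qWords.getD 70 []) (qPairs.getD 70 []) 13 6 = true := by decide +kernel

theorem q71a_ok : okPairsPart (qWords.getD 71 []) (qPairs.getD 71 []) 0 7 = true := by decide +kernel

theorem q71b_ok : okPairsPart (qWords.getD 71 []) (qPairs.getD 71 []) 7 6 = true := by decide +kernel

theorem q71c_ok : okPairsPart (qWords.getD 71 []) (qPairs.getD 71 []) 13 6 = true := by decide +kernel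

theorem q72a_ok : okPairsPart (qWords.getD 72 []) (qPairs.getD 72 []) 0 7 = true := by decide +kernel

theorem q72b_ok : okPairsPart (qWords.getD 72 []) (qPairs.getD 72 []) 7 6 = true := by decide +kernel

theorem q72c_ok : okPairsPart (qWords.getD 72 []) (qPairs.getD 72 []) 13 6 = true := by decide +kernel

theorem q73a_ok : okPairsPart (qWords.getD 73 []) (qPairs.getD 73 []) 0 7 = true := by decide +kernel

theorem q73b_ok : okPairsPart (qWords.getD 73 []) (qPairs.getD 73 []) 7 6 = true := by decide +kernel

theorem q73c_ok : okPairsPart (qWords.getD 73 []) (qPairs.getD 73 []) 13 6 = true := by decide +kernel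

theorem q74a_ok : okPairsPart (qWords.getD 74 []) (qPairs.getD 74 []) 0 7 = true := by decide +kernel

theorem q74b_ok : okPairsPart (qWords.getD 74 []) (qPairs.getD 74 []) 7 6 = true := by decide +kernel

theorem q74c_ok : okPairsPart (qWords.getD 74 []) (qPairs.getD 74 []) 13 6 = true := by decide +kernel

theorem q75a_ok : okPairsPart (qWords.getD 75 []) (qPairs.getD 75 []) 0 7 = true := by decide +kernel

theorem q75b_ok : okPairsPart (qWords.getD 75 []) (qPairs.getD 75 []) 7 6 = true := by decide +kernel

theorem q75c_ok : okPairsPart (qWords.getD 75 []) (qPairs.getD 75 []) 13 6 = true := by decide +kernel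

theorem q76a_ok : okPairsPart (qWords.getD 76 []) (qPairs.getD 76 []) 0 7 = true := by decide +kernel

theorem q76b_ok : okPairsPart (qWords.getD 76 []) (qPairs.getD 76 []) 7 6 = true := by decide +kernel

theorem q76c_ok : okPairsPart (qWords.getD 76 []) (qPairs.getD 76 []) 13 6 = true := by decide +kernel

theorem q77a_ok : okPairsPart (qWords.getD 77 []) (qPairs.getD 77 []) 0 7 = true := by decide +kernel

theorem q77b_ok : okPairsPart (qWords.getD 77 []) (qPairs.getD 77 []) 7 6 = true := by decide +kernel

theorem q77c_ok : okPairsPart (qWords.getD 77 []) (qPairs.getD 77 []) 13 6 = true := by decide +kernel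

theorem q78a_ok : okPairsPart (qWords.getD 78 []) (qPairs.getD 78 []) 0 7 = true := by decide +kernel

theorem q78b_ok : okPairsPart (qWords.getD 78 []) (qPairs.getD 78 []) 7 6 = true := by decide +kernel

theorem q78c_ok : okPairsPart (qWords.getD 78 []) (qPairs.getD 78 []) 13 6 = true := by decide +kernel

theorem q79a_ok : okPairsPart (qWords.getD 79 []) (qPairs.getD 79 []) 0 7 = true := by decide +kernel

theorem q79b_ok : okPairsPart (qWords.getD 79 []) (qPairs.getD 79 []) 7 6 = true := by decide +kernel

theorem q79c_ok : okPairsPart (qWords.getD 79 []) (qPairs.getD 79 []) 13 6 = true := by decide +kernel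

theorem q80a_ok : okPairsPart (qWords.getD 80 []) (qPairs.getD 80 []) 0 7 = true := by decide +kernel

theorem q80b_ok : okPairsPart (qWords.getD 80 []) (qPairs.getD 80 []) 7 6 = true := by decide +kernel

theorem q80c_ok : okPairsPart (qWords.getD 80 []) (qPairs.getD 80 []) 13 6 = true := by decide +kernel

theorem q81a_ok : okPairsPart (qWords.getD 81 []) (qPairs.getD 81 []) 0 7 = true := by decide +kernel

theorem q81b_ok : okPairsPart (qWords.getD 81 []) (qPairs.getD 81 []) 7 6 = true := by decide +kernel

theorem q81c_ok : okPairsPart (qWords.getD 81 []) (qPairs.getD 81 []) 13 6 = true := by decide +kernel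

theorem pairs3_ok : ∀ k, 61 ≤ k → k < 82 → okPairs (qWords.getD k []) (qPairs.getD k []) = true := by
  intro k h1 h2
  interval_cases k
  · exact okPairs_of_parts q61a_ok q61b_ok q61c_ok
  · exact okPairs_of_parts q62a_ok q62b_ok q62c_ok
  · exact okPairs_of_parts q63a_ok q63b_ok q63c_ok
  · exact okPairs_of_parts q64a_ok q64b_ok q64c_ok
  · exact okPairs_of_parts q65a_ok q65b_ok q65c_ok
  · exact okPairs_of_parts q66a_ok q66b_ok q66c_ok
  · exact okPairs_of_parts q67a_ok q67b_ok q67c_ok
  · exact okPairs_of_parts q68a_ok q68b_ok q68c_ok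
  · exact okPairs_of_parts q69a_ok q69b_ok q69c_ok
  · exact okPairs_of_parts q70a_ok q70b_ok q70c_ok
  · exact okPairs_of_parts q71a_ok q71b_ok q71c_ok
  · exact okPairs_of_parts q72a_ok q72b_ok q72c_ok
  · exact okPairs_of_parts q73a_ok q73b_ok q73c_ok
  · exact okPairs_of_parts q74a_ok q74b_ok q74c_ok
  · exact okPairs_of_parts q75a_ok q75b_ok q75c_ok
  · exact okPairs_of_parts q76a_ok q76b_ok q76c_ok
  · exact okPairs_of_parts q77a_ok q77b_ok q77c_ok
  · exact okPairs_of_parts q78a_ok q78b_ok q78c_ok
  · exact okPairs_of_parts q79a_ok q79b_ok q79c_ok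
  · exact okPairs_of_parts q80a_ok q80b_ok q80c_ok
  · exact okPairs_of_parts q81a_ok q81b_ok q81c_ok

end CfsgLib.Spor.Fi24Invol
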