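import Cfsg.Agent.Lib.Spor.Fi24Invol.DataWit
import Cfsg.Agent.Lib.Spor.Fi24Invol.Pairs

/-!
Checks of images under transpositions.
-/

set_option maxRecDepth 100000
set_option maxHeartbeats 0
set_option Elab.async false

namespace CfsgLib.Spor.Fi24Invol

open CfsgLib.BitPerm

theorem q82a_ok : okPairsPart (qWords.getD 82 []) (qPairs.getD 82 []) 0 7 = true := by decide +kernel

theorem q82b_ok : okPairsPart (qWords.getD 82 []) (qPairs.getD 82 []) 7 6 = true := by decide +kernel

theorem q82c_ok : okPairsPart (qWords.getD 82 []) (qPairs.getD 82 []) 13 6 = true := by decide +kernel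

theorem q83a_ok : okPairsPart (qWords.getD 83 []) (qPairs.getD 83 []) 0 7 = true := by decide +kernel

theorem q83b_ok : okPairsPart (qWords.getD 83 []) (qPairs.getD 83 []) 7 6 = true := by decide +kernel

theorem q83c_ok : okPairsPart (qWords.getD 83 []) (qPairs.getD 83 []) 13 6 = true := by decide +kernel

theorem q84a_ok : okPairsPart (qWords.getD 84 []) (qPairs.getD 84 []) 0 7 = true := by decide +kernel

theorem q84b_ok : okPairsPart (qWords.getD 84 []) (qPairs.getD 84 []) 7 6 = true := by decide +kernel

theorem q84c_ok : okPairsPart (qWords.getD 84 []) (qPairs.getD 84 []) 13 6 = true := by decide +kernel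

theorem q85a_ok : okPairsPart (qWords.getD 85 []) (qPairs.getD 85 []) 0 7 = true := by decide +kernel

theorem q85b_ok : okPairsPart (qWords.getD 85 []) (qPairs.getD 85 []) 7 6 = true := by decide +kernel

theorem q85c_ok : okPairsPart (qWords.getD 85 []) (qPairs.getD 85 []) 13 6 = true := by decide +kernel

theorem q86a_ok : okPairsPart (qWords.getD 86 []) (qPairs.getD 86 []) 0 7 = true := by decide +kernel

theorem q86b_ok : okPairsPart (qWords.getD 86 []) (qPairs.getD 86 []) 7 6 = true := by decide +kernel

theorem q86c_ok : okPairsPart (qWords.getD 86 []) (qPairs.getD 86 []) 13 6 = true := by decide +kernel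

theorem q87a_ok : okPairsPart (qWords.getD 87 []) (qPairs.getD 87 []) 0 7 = true := by decide +kernel

theorem q87b_ok : okPairsPart (qWords.getD 87 []) (qPairs.getD 87 []) 7 6 = true := by decide +kernel

theorem q87c_ok : okPairsPart (qWords.getD 87 []) (qPairs.getD 87 []) 13 6 = true := by decide +kernel

theorem q88a_ok : okPairsPart (qWords.getD 88 []) (qPairs.getD 88 []) 0 7 = true := by decide +kernel

theorem q88b_ok : okPairsPart (qWords.getD 88 []) (qPairs.getD 88 []) 7 6 = true := by decide +kernel

theorem q88c_ok : okPairsPart (qWords.getD 88 []) (qPairs.getD 88 []) 13 6 = true := by decide +kernel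

theorem q89a_ok : okPairsPart (qWords.getD 89 []) (qPairs.getD 89 []) 0 7 = true := by decide +kernel

theorem q89b_ok : okPairsPart (qWords.getD 89 []) (qPairs.getD 89 []) 7 6 = true := by decide +kernel

theorem q89c_ok : okPairsPart (qWords.getD 89 []) (qPairs.getD 89 []) 13 6 = true := by decide +kernel

theorem q90a_ok : okPairsPart (qWords.getD 90 []) (qPairs.getD 90 []) 0 7 = true := by decide +kernel

theorem q90b_ok : okPairsPart (qWords.getD 90 []) (qPairs.getD 90 []) 7 6 = true := by decide +kernel

theorem q90c_ok : okPairsPart (qWords.getD 90 []) (qPairs.getD 90 []) 13 6 = true := by decide +kernel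

theorem q91a_ok : okPairsPart (qWords.getD 91 []) (qPairs.getD 91 []) 0 7 = true := by decide +kernel

theorem q91b_ok : okPairsPart (qWords.getD 91 []) (qPairs.getD 91 []) 7 6 = true := by decide +kernel

theorem q91c_ok : okPairsPart (qWords.getD 91 []) (qPairs.getD 91 []) 13 6 = true := by decide +kernel

theorem q92a_ok : okPairsPart (qWords.getD 92 []) (qPairs.getD 92 []) 0 7 = true := by decide +kernel

theorem q92b_ok : okPairsPart (qWords.getD 92 []) (qPairs.getD 92 []) 7 6 = true := by decide +kernel

theorem q92c_ok : okPairsPart (qWords.getD 92 []) (qPairs.getD 92 []) 13 6 = true := by decide +kernel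

theorem q93a_ok : okPairsPart (qWords.getD 93 []) (qPairs.getD 93 []) 0 7 = true := by decide +kernel

theorem q93b_ok : okPairsPart (qWords.getD 93 []) (qPairs.getD 93 []) 7 6 = true := by decide +kernel

theorem q93c_ok : okPairsPart (qWords.getD 93 []) (qPairs.getD 93 []) 13 6 = true := by decide +kernel

theorem q94a_ok : okPairsPart (qWords.getD 94 []) (qPairs.getD 94 []) 0 7 = true := by decide +kernel

theorem q94b_ok : okPairsPart (qWords.getD 94 []) (qPairs.getD 94 []) 7 6 = true := by decide +kernel

theorem q94c_ok : okPairsPart (qWords.getD 94 []) (qPairs.getD 94 []) 13 6 = true := by decide +kernel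

theorem q95a_ok : okPairsPart (qWords.getD 95 []) (qPairs.getD 95 []) 0 7 = true := by decide +kernel

theorem q95b_ok : okPairsPart (qWords.getD 95 []) (qPairs.getD 95 []) 7 6 = true := by decide +kernel

theorem q95c_ok : okPairsPart (qWords.getD 95 []) (qPairs.getD 95 []) 13 6 = true := by decide +kernel

theorem q96a_ok : okPairsPart (qWords.getD 96 []) (qPairs.getD 96 []) 0 7 = true := by decide +kernel

theorem q96b_ok : okPairsPart (qWords.getD 96 []) (qPairs.getD 96 []) 7 6 = true := by decide +kernel

theorem q96c_ok : okPairsPart (qWords.getD 96 []) (qPairs.getD 96 []) 13 6 = true := by decide +kernel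

theorem q97a_ok : okPairsPart (qWords.getD 97 []) (qPairs.getD 97 []) 0 7 = true := by decide +kernel

theorem q97b_ok : okPairsPart (qWords.getD 97 []) (qPairs.getD 97 []) 7 6 = true := by decide +kernel

theorem q97c_ok : okPairsPart (qWords.getD 97 []) (qPairs.getD 97 []) 13 6 = true := by decide +kernel

theorem q98a_ok : okPairsPart (qWords.getD 98 []) (qPairs.getD 98 []) 0 7 = true := by decide +kernel

theorem q98b_ok : okPairsPart (qWords.getD 98 []) (qPairs.getD 98 []) 7 6 = true := by decide +kernel

theorem q98c_ok : okPairsPart (qWords.getD 98 []) (qPairs.getD 98 []) 13 6 = true := by decide +kernel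

theorem q99a_ok : okPairsPart (qWords.getD 99 []) (qPairs.getD 99 []) 0 7 = true := by decide +kernel

theorem q99b_ok : okPairsPart (qWords.getD 99 []) (qPairs.getD 99 []) 7 6 = true := by decide +kernel

theorem q99c_ok : okPairsPart (qWords.getD 99 []) (qPairs.getD 99 []) 13 6 = true := by decide +kernel

theorem q100a_ok : okPairsPart (qWords.getD 100 []) (qPairs.getD 100 []) 0 7 = true := by decide +kernel

theorem q100b_ok : okPairsPart (qWords.getD 100 []) (qPairs.getD 100 []) 7 6 = true := by decide +kernel

theorem q100c_ok : okPairsPart (qWords.getD 100 []) (qPairs.getD 100 []) 13 6 = true := by decide +kernel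

theorem q101a_ok : okPairsPart (qWords.getD 101 []) (qPairs.getD 101 []) 0 7 = true := by decide +kernel

theorem q101b_ok : okPairsPart (qWords.getD 101 []) (qPairs.getD 101 []) 7 6 = true := by decide +kernel

theorem q101c_ok : okPairsPart (qWords.getD 101 []) (qPairs.getD 101 []) 13 6 = true := by decide +kernel

theorem pairs4_ok : ∀ k, 82 ≤ k → k < 102 → okPairs (qWords.getD k []) (qPairs.getD k []) = true := by
  intro k h1 h2
  interval_cases k
  · exact okPairs_of_parts q82a_ok q82b_ok q82c_ok
  · exact okPairs_of_parts q83a_ok q83b_ok q83c_ok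
  · exact okPairs_of_parts q84a_ok q84b_ok q84c_ok
  · exact okPairs_of_parts q85a_ok q85b_ok q85c_ok
  · exact okPairs_of_parts q86a_ok q86b_ok q86c_ok
  · exact okPairs_of_parts q87a_ok q87b_ok q87c_ok
  · exact okPairs_of_parts q88a_ok q88b_ok q88c_ok
  · exact okPairs_of_parts q89a_ok q89b_ok q89c_ok
  · exact okPairs_of_parts q90a_ok q90b_ok q90c_ok
  · exact okPairs_of_parts q91a_ok q91b_ok q91c_ok
  · exact okPairs_of_parts q92a_ok q92b_ok q92c_ok
  · exact okPairs_of_parts q93a_ok q93b_ok q93c_ok
  · exact okPairs_of_parts q94a_ok q94b_ok q94c_ok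
  · exact okPairs_of_parts q95a_ok q95b_ok q95c_ok
  · exact okPairs_of_parts q96a_ok q96b_ok q96c_ok
  · exact okPairs_of_parts q97a_ok q97b_ok q97c_ok
  · exact okPairs_of_parts q98a_ok q98b_ok q98c_ok
  · exact okPairs_of_parts q99a_ok q99b_ok q99c_ok
  · exact okPairs_of_parts q100a_ok q100b_ok q100c_ok
  · exact okPairs_of_parts q101a_ok q101b_ok q101c_ok

end CfsgLib.Spor.Fi24Invol
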