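import Cfsg.Agent.Lib.Spor.Fi24Invol.DataWit
import Cfsg.Agent.Lib.Spor.Fi24Invol.Pairs

/-!
Checks of images under transpositions.
-/

set_option maxRecDepth 100000
set_option maxHeartbeats 0
set_option Elab.async false

namespace CfsgLib.Spor.Fi24Invol

open CfsgLib.BitPerm

theorem q102a_ok : okPairsPart (qWords.getD 102 []) (qPairs.getD 102 []) 0 7 = true := by decide +kernel

theorem q102b_ok : okPairsPart (qWords.getD 102 []) (qPairs.getD 102 []) 7 6 = true := by decide +kernel

theorem q102c_ok : okPairsPart (qWords.getD 102 []) (qPairs.getD 102 []) 13 6 = true := by decide +kernel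

theorem q103a_ok : okPairsPart (qWords.getD 103 []) (qPairs.getD 103 []) 0 7 = true := by decide +kernel

theorem q103b_ok : okPairsPart (qWords.getD 103 []) (qPairs.getD 103 []) 7 6 = true := by decide +kernel

theorem q103c_ok : okPairsPart (qWords.getD 103 []) (qPairs.getD 103 []) 13 6 = true := by decide +kernel

theorem q104a_ok : okPairsPart (qWords.getD 104 []) (qPairs.getD 104 []) 0 7 = true := by decide +kernel

theorem q104b_ok : okPairsPart (qWords.getD 104 []) (qPairs.getD 104 []) 7 6 = true := by decide +kernel

theorem q104c_ok : okPairsPart (qWords.getD 104 []) (qPairs.getD 104 []) 13 6 = true := by decide +kernel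

theorem q105a_ok : okPairsPart (qWords.getD 105 []) (qPairs.getD 105 []) 0 7 = true := by decide +kernel

theorem q105b_ok : okPairsPart (qWords.getD 105 []) (qPairs.getD 105 []) 7 6 = true := by decide +kernel

theorem q105c_ok : okPairsPart (qWords.getD 105 []) (qPairs.getD 105 []) 13 6 = true := by decide +kernel

theorem q106a_ok : okPairsPart (qWords.getD 106 []) (qPairs.getD 106 []) 0 7 = true := by decide +kernel

theorem q106b_ok : okPairsPart (qWords.getD 106 []) (qPairs.getD 106 []) 7 6 = true := by decide +kernel

theorem q106c_ok : okPairsPart (qWords.getD 106 []) (qPairs.getD 106 []) 13 6 = true := by decide +kernel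

theorem q107a_ok : okPairsPart (qWords.getD 107 []) (qPairs.getD 107 []) 0 7 = true := by decide +kernel

theorem q107b_ok : okPairsPart (qWords.getD 107 []) (qPairs.getD 107 []) 7 6 = true := by decide +kernel

theorem q107c_ok : okPairsPart (qWords.getD 107 []) (qPairs.getD 107 []) 13 6 = true := by decide +kernel

theorem q108a_ok : okPairsPart (qWords.getD 108 []) (qPairs.getD 108 []) 0 7 = true := by decide +kernel

theorem q108b_ok : okPairsPart (qWords.getD 108 []) (qPairs.getD 108 []) 7 6 = true := by decide +kernel

theorem q108c_ok : okPairsPart (qWords.getD 108 []) (qPairs.getD 108 []) 13 6 = true := by decide +kernel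

theorem q109a_ok : okPairsPart (qWords.getD 109 []) (qPairs.getD 109 []) 0 7 = true := by decide +kernel

theorem q109b_ok : okPairsPart (qWords.getD 109 []) (qPairs.getD 109 []) 7 6 = true := by decide +kernel

theorem q109c_ok : okPairsPart (qWords.getD 109 []) (qPairs.getD 109 []) 13 6 = true := by decide +kernel

theorem q110a_ok : okPairsPart (qWords.getD 110 []) (qPairs.getD 110 []) 0 7 = true := by decide +kernel

theorem q110b_ok : okPairsPart (qWords.getD 110 []) (qPairs.getD 110 []) 7 6 = true := by decide +kernel

theorem q110c_ok : okPairsPart (qWords.getD 110 []) (qPairs.getD 110 []) 13 6 = true := by decide +kernel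

theorem q111a_ok : okPairsPart (qWords.getD 111 []) (qPairs.getD 111 []) 0 7 = true := by decide +kernel

theorem q111b_ok : okPairsPart (qWords.getD 111 []) (qPairs.getD 111 []) 7 6 = true := by decide +kernel

theorem q111c_ok : okPairsPart (qWords.getD 111 []) (qPairs.getD 111 []) 13 6 = true := by decide +kernel

theorem q112a_ok : okPairsPart (qWords.getD 112 []) (qPairs.getD 112 []) 0 7 = true := by decide +kernel

theorem q112b_ok : okPairsPart (qWords.getD 112 []) (qPairs.getD 112 []) 7 6 = true := by decide +kernel

theorem q112c_ok : okPairsPart (qWords.getD 112 []) (qPairs.getD 112 []) 13 6 = true := by decide +kernel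

theorem q113a_ok : okPairsPart (qWords.getD 113 []) (qPairs.getD 113 []) 0 7 = true := by decide +kernel

theorem q113b_ok : okPairsPart (qWords.getD 113 []) (qPairs.getD 113 []) 7 6 = true := by decide +kernel

theorem q113c_ok : okPairsPart (qWords.getD 113 []) (qPairs.getD 113 []) 13 6 = true := by decide +kernel

theorem q114a_ok : okPairsPart (qWords.getD 114 []) (qPairs.getD 114 []) 0 7 = true := by decide +kernel

theorem q114b_ok : okPairsPart (qWords.getD 114 []) (qPairs.getD 114 []) 7 6 = true := by decide +kernel

theorem q114c_ok : okPairsPart (qWords.getD 114 []) (qPairs.getD 114 []) 13 6 = true := by decide +kernel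

theorem q115a_ok : okPairsPart (qWords.getD 115 []) (qPairs.getD 115 []) 0 7 = true := by decide +kernel

theorem q115b_ok : okPairsPart (qWords.getD 115 []) (qPairs.getD 115 []) 7 6 = true := by decide +kernel

theorem q115c_ok : okPairsPart (qWords.getD 115 []) (qPairs.getD 115 []) 13 6 = true := by decide +kernel

theorem q116a_ok : okPairsPart (qWords.getD 116 []) (qPairs.getD 116 []) 0 7 = true := by decide +kernel

theorem q116b_ok : okPairsPart (qWords.getD 116 []) (qPairs.getD 116 []) 7 6 = true := by decide +kernel

theorem q116c_ok : okPairsPart (qWords.getD 116 []) (qPairs.getD 116 []) 13 6 = true := by decide +kernel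

theorem q117a_ok : okPairsPart (qWords.getD 117 []) (qPairs.getD 117 []) 0 7 = true := by decide +kernel

theorem q117b_ok : okPairsPart (qWords.getD 117 []) (qPairs.getD 117 []) 7 6 = true := by decide +kernel

theorem q117c_ok : okPairsPart (qWords.getD 117 []) (qPairs.getD 117 []) 13 6 = true := by decide +kernel

theorem q118a_ok : okPairsPart (qWords.getD 118 []) (qPairs.getD 118 []) 0 7 = true := by decide +kernel

theorem q118b_ok : okPairsPart (qWords.getD 118 []) (qPairs.getD 118 []) 7 6 = true := by decide +kernel

theorem q118c_ok : okPairsPart (qWords.getD 118 []) (qPairs.getD 118 []) 13 6 = true := by decide +kernel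

theorem q119a_ok : okPairsPart (qWords.getD 119 []) (qPairs.getD 119 []) 0 7 = true := by decide +kernel

theorem q119b_ok : okPairsPart (qWords.getD 119 []) (qPairs.getD 119 []) 7 6 = true := by decide +kernel

theorem q119c_ok : okPairsPart (qWords.getD 119 []) (qPairs.getD 119 []) 13 6 = true := by decide +kernel

theorem q120a_ok : okPairsPart (qWords.getD 120 []) (qPairs.getD 120 []) 0 7 = true := by decide +kernel

theorem q120b_ok : okPairsPart (qWords.getD 120 []) (qPairs.getD 120 []) 7 6 = true := by decide +kernel

theorem q120c_ok : okPairsPart (qWords.getD 120 []) (qPairs.getD 120 []) 13 6 = true := by decide +kernel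

theorem q121a_ok : okPairsPart (qWords.getD 121 []) (qPairs.getD 121 []) 0 7 = true := by decide +kernel

theorem q121b_ok : okPairsPart (qWords.getD 121 []) (qPairs.getD 121 []) 7 6 = true := by decide +kernel

theorem q121c_ok : okPairsPart (qWords.getD 121 []) (qPairs.getD 121 []) 13 6 = true := by decide +kernel

theorem pairs5_ok : ∀ k, 102 ≤ k → k < 122 → okPairs (qWords.getD k []) (qPairs.getD k []) = true := by
  intro k h1 h2
  interval_cases k
  · exact okPairs_of_parts q102a_ok q102b_ok q102c_ok
  · exact okPairs_of_parts q103a_ok q103b_ok q103c_ok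
  · exact okPairs_of_parts q104a_ok q104b_ok q104c_ok
  · exact okPairs_of_parts q105a_ok q105b_ok q105c_ok
  · exact okPairs_of_parts q106a_ok q106b_ok q106c_ok
  · exact okPairs_of_parts q107a_ok q107b_ok q107c_ok
  · exact okPairs_of_parts q108a_ok q108b_ok q108c_ok
  · exact okPairs_of_parts q109a_ok q109b_ok q109c_ok
  · exact okPairs_of_parts q110a_ok q110b_ok q110c_ok
  · exact okPairs_of_parts q111a_ok q111b_ok q111c_ok
  · exact okPairs_of_parts q112a_ok q112b_ok q112c_ok
  · exact okPairs_of_parts q113a_ok q113b_ok q113c_ok
  · exact okPairs_of_parts q114a_ok q114b_ok q114c_ok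
  · exact okPairs_of_parts q115a_ok q115b_ok q115c_ok
  · exact okPairs_of_parts q116a_ok q116b_ok q116c_ok
  · exact okPairs_of_parts q117a_ok q117b_ok q117c_ok
  · exact okPairs_of_parts q118a_ok q118b_ok q118c_ok
  · exact okPairs_of_parts q119a_ok q119b_ok q119c_ok
  · exact okPairs_of_parts q120a_ok q120b_ok q120c_ok
  · exact okPairs_of_parts q121a_ok q121b_ok q121c_ok

end CfsgLib.Spor.Fi24Invol
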