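import Cfsg.Agent.Lib.Spor.Fi24Invol.DataDerive
import Cfsg.Agent.Lib.Spor.Fi24Invol.Data

/-!
Checks of the points and of the derivation of the transpositions of the letters.
-/

set_option maxRecDepth 100000
set_option maxHeartbeats 0

namespace CfsgLib.Spor.Fi24Invol

theorem pts_ok : okPts sData = true := by decide +kernel

theorem derive_ok : okDerive deriveData (qList.map fun i => fld 20 sData i) letterPts = true := by decide +kernel

end CfsgLib.Spor.Fi24Invol
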