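import Cfsg.Agent.Lib.Spor.Fi24Invol.Check

/-!
Checking a table a few planes at a time.
-/

set_option autoImplicit false

namespace CfsgLib.Spor.Fi24Invol

open CfsgLib.BitPerm

/-- `okTab`, for the planes from `lo` on -/
noncomputable def okTabPart (S : Nat) (T : Nat) (w : List Nat) (lo len : Nat) : Bool :=
  force S fun S' => force T fun T' =>
    allLt len fun d => force (Nat.add lo d) fun j =>
      force (CfsgLib.BitPerm.Sys.actW Fi24.sys w (plane j 19)) fun A =>
      allLt 504 fun i => Bool.and
        (Bool.rec (Nat.beq (Nat.land (Nat.shiftRight (fld 20 S' (fld 16 T' i)) j) 1) 0)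
          (Nat.beq (Nat.land (Nat.shiftRight (fld 20 S' (fld 16 T' i)) j) 1) 1) (A.testBit (fld 20 S' i)))
        (Nat.blt (fld 16 T' i) 504)

theorem allLt_of_forall {f : Nat → Bool} : ∀ {n : Nat}, (∀ i < n, f i = true) → allLt n f = true
  | 0, _ => rfl
  | n + 1, h => by
    show (allLt n f && f n) = true
    rw [allLt_of_forall fun i hi => h i (Nat.lt_succ_of_lt hi), h n (Nat.lt_succ_self n)]
    rfl

/-- the part starting at `lo` covers `j` -/
def Covers (S T : Nat) (w : List Nat) (j : Nat) : Prop :=
  ∃ lo len, okTabPart S T w lo len = true ∧ lo ≤ j ∧ j < lo + len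

theorem okTab_of_covers {S T : Nat} {w : List Nat} (h : ∀ j < 19, Covers S T w j) : okTab S T w = true := by
  rw [okTab, force_eq, force_eq]
  refine allLt_of_forall fun j hj => ?_
  obtain ⟨lo, len, e, h1, h2⟩ := h j hj
  rw [okTabPart, force_eq, force_eq] at e
  have e' := allLt_spec e (j - lo) (by omega)
  rwa [force_eq, show Nat.add lo (j - lo) = j from Nat.add_sub_cancel' h1] at e'

end CfsgLib.Spor.Fi24Invol
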