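import Cfsg.Agent.Lib.Spor.Fi24Invol.Data
import Cfsg.Agent.Lib.Spor.Fi24Invol.TabParts

/-!
Checks of the tables of the basic elements.
-/

set_option maxRecDepth 100000
set_option maxHeartbeats 0
set_option Elab.async false

namespace CfsgLib.Spor.Fi24Invol

open CfsgLib.BitPerm

theorem tab0p0_ok : okTabPart sData (basT.getD 0 0) (basW.getD 0 []) 0 3 = true := by
  decide +kernel

theorem tab0p1_ok : okTabPart sData (basT.getD 0 0) (basW.getD 0 []) 3 3 = true := by
  decide +kernel

theorem tab0p2_ok : okTabPart sData (basT.getD 0 0) (basW.getD 0 []) 6 3 = true := by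
  decide +kernel

theorem tab0p3_ok : okTabPart sData (basT.getD 0 0) (basW.getD 0 []) 9 3 = true := by
  decide +kernel

theorem tab0p4_ok : okTabPart sData (basT.getD 0 0) (basW.getD 0 []) 12 3 = true := by
  decide +kernel

theorem tab0p5_ok : okTabPart sData (basT.getD 0 0) (basW.getD 0 []) 15 2 = true := by
  decide +kernel

theorem tab0p6_ok : okTabPart sData (basT.getD 0 0) (basW.getD 0 []) 17 2 = true := by
  decide +kernel

theorem basTab0 : okTab sData (basT.getD 0 0) (basW.getD 0 []) = true := by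
  refine okTab_of_covers fun j hj => ?_
  by_cases h0 : j < 3
  · exact ⟨0, 3, tab0p0_ok, by omega, by omega⟩
  by_cases h1 : j < 6
  · exact ⟨3, 3, tab0p1_ok, by omega, by omega⟩
  by_cases h2 : j < 9
  · exact ⟨6, 3, tab0p2_ok, by omega, by omega⟩
  by_cases h3 : j < 12
  · exact ⟨9, 3, tab0p3_ok, by omega, by omega⟩
  by_cases h4 : j < 15
  · exact ⟨12, 3, tab0p4_ok, by omega, by omega⟩
  by_cases h5 : j < 17
  · exact ⟨15, 2, tab0p5_ok, by omega, by omega⟩
  exact ⟨17, 2, tab0p6_ok, by omega, by omega⟩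

theorem tab1p0_ok : okTabPart sData (basT.getD 1 0) (basW.getD 1 []) 0 5 = true := by
  decide +kernel

theorem tab1p1_ok : okTabPart sData (basT.getD 1 0) (basW.getD 1 []) 5 5 = true := by
  decide +kernel

theorem tab1p2_ok : okTabPart sData (basT.getD 1 0) (basW.getD 1 []) 10 5 = true := by
  decide +kernel

theorem tab1p3_ok : okTabPart sData (basT.getD 1 0) (basW.getD 1 []) 15 4 = true := by
  decide +kernel

theorem basTab1 : okTab sData (basT.getD 1 0) (basW.getD 1 []) = true := by
  refine okTab_of_covers fun j hj => ?_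
  by_cases h0 : j < 5
  · exact ⟨0, 5, tab1p0_ok, by omega, by omega⟩
  by_cases h1 : j < 10
  · exact ⟨5, 5, tab1p1_ok, by omega, by omega⟩
  by_cases h2 : j < 15
  · exact ⟨10, 5, tab1p2_ok, by omega, by omega⟩
  exact ⟨15, 4, tab1p3_ok, by omega, by omega⟩

theorem tab2p0_ok : okTabPart sData (basT.getD 2 0) (basW.getD 2 []) 0 3 = true := by
  decide +kernel

theorem tab2p1_ok : okTabPart sData (basT.getD 2 0) (basW.getD 2 []) 3 3 = true := by
  decide +kernel

theorem tab2p2_ok : okTabPart sData (basT.getD 2 0) (basW.getD 2 []) 6 3 = true := by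
  decide +kernel

theorem tab2p3_ok : okTabPart sData (basT.getD 2 0) (basW.getD 2 []) 9 3 = true := by
  decide +kernel

theorem tab2p4_ok : okTabPart sData (basT.getD 2 0) (basW.getD 2 []) 12 3 = true := by
  decide +kernel

theorem tab2p5_ok : okTabPart sData (basT.getD 2 0) (basW.getD 2 []) 15 2 = true := by
  decide +kernel

theorem tab2p6_ok : okTabPart sData (basT.getD 2 0) (basW.getD 2 []) 17 2 = true := by
  decide +kernel

theorem basTab2 : okTab sData (basT.getD 2 0) (basW.getD 2 []) = true := by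
  refine okTab_of_covers fun j hj => ?_
  by_cases h0 : j < 3
  · exact ⟨0, 3, tab2p0_ok, by omega, by omega⟩
  by_cases h1 : j < 6
  · exact ⟨3, 3, tab2p1_ok, by omega, by omega⟩
  by_cases h2 : j < 9
  · exact ⟨6, 3, tab2p2_ok, by omega, by omega⟩
  by_cases h3 : j < 12
  · exact ⟨9, 3, tab2p3_ok, by omega, by omega⟩
  by_cases h4 : j < 15
  · exact ⟨12, 3, tab2p4_ok, by omega, by omega⟩
  by_cases h5 : j < 17
  · exact ⟨15, 2, tab2p5_ok, by omega, by omega⟩
  exact ⟨17, 2, tab2p6_ok, by omega, by omega⟩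

theorem tab3p0_ok : okTabPart sData (basT.getD 3 0) (basW.getD 3 []) 0 5 = true := by
  decide +kernel

theorem tab3p1_ok : okTabPart sData (basT.getD 3 0) (basW.getD 3 []) 5 5 = true := by
  decide +kernel

theorem tab3p2_ok : okTabPart sData (basT.getD 3 0) (basW.getD 3 []) 10 5 = true := by
  decide +kernel

theorem tab3p3_ok : okTabPart sData (basT.getD 3 0) (basW.getD 3 []) 15 4 = true := by
  decide +kernel

theorem basTab3 : okTab sData (basT.getD 3 0) (basW.getD 3 []) = true := by
  refine okTab_of_covers fun j hj => ?_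
  by_cases h0 : j < 5
  · exact ⟨0, 5, tab3p0_ok, by omega, by omega⟩
  by_cases h1 : j < 10
  · exact ⟨5, 5, tab3p1_ok, by omega, by omega⟩
  by_cases h2 : j < 15
  · exact ⟨10, 5, tab3p2_ok, by omega, by omega⟩
  exact ⟨15, 4, tab3p3_ok, by omega, by omega⟩

theorem tab4p0_ok : okTabPart sData (basT.getD 4 0) (basW.getD 4 []) 0 5 = true := by
  decide +kernel

theorem tab4p1_ok : okTabPart sData (basT.getD 4 0) (basW.getD 4 []) 5 5 = true := by
  decide +kernel

theorem tab4p2_ok : okTabPart sData (basT.getD 4 0) (basW.getD 4 []) 10 5 = true := by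
  decide +kernel

theorem tab4p3_ok : okTabPart sData (basT.getD 4 0) (basW.getD 4 []) 15 4 = true := by
  decide +kernel

theorem basTab4 : okTab sData (basT.getD 4 0) (basW.getD 4 []) = true := by
  refine okTab_of_covers fun j hj => ?_
  by_cases h0 : j < 5
  · exact ⟨0, 5, tab4p0_ok, by omega, by omega⟩
  by_cases h1 : j < 10
  · exact ⟨5, 5, tab4p1_ok, by omega, by omega⟩
  by_cases h2 : j < 15
  · exact ⟨10, 5, tab4p2_ok, by omega, by omega⟩
  exact ⟨15, 4, tab4p3_ok, by omega, by omega⟩

end CfsgLib.Spor.Fi24Invol
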