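import Cfsg.Agent.Lib.Spor.Fi24Invol.Data
import Cfsg.Agent.Lib.Spor.Fi24Invol.TabParts

/-!
Checks of the tables of the basic elements.
-/

set_option maxRecDepth 100000
set_option maxHeartbeats 0
set_option Elab.async false

namespace CfsgLib.Spor.Fi24Invol

open CfsgLib.BitPerm

theorem tab5p0_ok : okTabPart sData (basT.getD 5 0) (basW.getD 5 []) 0 3 = true := by
  decide +kernel

theorem tab5p1_ok : okTabPart sData (basT.getD 5 0) (basW.getD 5 []) 3 3 = true := by
  decide +kernel

theorem tab5p2_ok : okTabPart sData (basT.getD 5 0) (basW.getD 5 []) 6 3 = true := by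
  decide +kernel

theorem tab5p3_ok : okTabPart sData (basT.getD 5 0) (basW.getD 5 []) 9 3 = true := by
  decide +kernel

theorem tab5p4_ok : okTabPart sData (basT.getD 5 0) (basW.getD 5 []) 12 3 = true := by
  decide +kernel

theorem tab5p5_ok : okTabPart sData (basT.getD 5 0) (basW.getD 5 []) 15 2 = true := by
  decide +kernel

theorem tab5p6_ok : okTabPart sData (basT.getD 5 0) (basW.getD 5 []) 17 2 = true := by
  decide +kernel

theorem basTab5 : okTab sData (basT.getD 5 0) (basW.getD 5 []) = true := by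
  refine okTab_of_covers fun j hj => ?_
  by_cases h0 : j < 3
  · exact ⟨0, 3, tab5p0_ok, by omega, by omega⟩
  by_cases h1 : j < 6
  · exact ⟨3, 3, tab5p1_ok, by omega, by omega⟩
  by_cases h2 : j < 9
  · exact ⟨6, 3, tab5p2_ok, by omega, by omega⟩
  by_cases h3 : j < 12
  · exact ⟨9, 3, tab5p3_ok, by omega, by omega⟩
  by_cases h4 : j < 15
  · exact ⟨12, 3, tab5p4_ok, by omega, by omega⟩
  by_cases h5 : j < 17
  · exact ⟨15, 2, tab5p5_ok, by omega, by omega⟩
  exact ⟨17, 2, tab5p6_ok, by omega, by omega⟩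

theorem tab6p0_ok : okTabPart sData (basT.getD 6 0) (basW.getD 6 []) 0 3 = true := by
  decide +kernel

theorem tab6p1_ok : okTabPart sData (basT.getD 6 0) (basW.getD 6 []) 3 3 = true := by
  decide +kernel

theorem tab6p2_ok : okTabPart sData (basT.getD 6 0) (basW.getD 6 []) 6 3 = true := by
  decide +kernel

theorem tab6p3_ok : okTabPart sData (basT.getD 6 0) (basW.getD 6 []) 9 3 = true := by
  decide +kernel

theorem tab6p4_ok : okTabPart sData (basT.getD 6 0) (basW.getD 6 []) 12 3 = true := by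
  decide +kernel

theorem tab6p5_ok : okTabPart sData (basT.getD 6 0) (basW.getD 6 []) 15 2 = true := by
  decide +kernel

theorem tab6p6_ok : okTabPart sData (basT.getD 6 0) (basW.getD 6 []) 17 2 = true := by
  decide +kernel

theorem basTab6 : okTab sData (basT.getD 6 0) (basW.getD 6 []) = true := by
  refine okTab_of_covers fun j hj => ?_
  by_cases h0 : j < 3
  · exact ⟨0, 3, tab6p0_ok, by omega, by omega⟩
  by_cases h1 : j < 6
  · exact ⟨3, 3, tab6p1_ok, by omega, by omega⟩
  by_cases h2 : j < 9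
  · exact ⟨6, 3, tab6p2_ok, by omega, by omega⟩
  by_cases h3 : j < 12
  · exact ⟨9, 3, tab6p3_ok, by omega, by omega⟩
  by_cases h4 : j < 15
  · exact ⟨12, 3, tab6p4_ok, by omega, by omega⟩
  by_cases h5 : j < 17
  · exact ⟨15, 2, tab6p5_ok, by omega, by omega⟩
  exact ⟨17, 2, tab6p6_ok, by omega, by omega⟩

theorem tab7p0_ok : okTabPart sData (basT.getD 7 0) (basW.getD 7 []) 0 4 = true := by
  decide +kernel

theorem tab7p1_ok : okTabPart sData (basT.getD 7 0) (basW.getD 7 []) 4 4 = true := by
  decide +kernel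

theorem tab7p2_ok : okTabPart sData (basT.getD 7 0) (basW.getD 7 []) 8 4 = true := by
  decide +kernel

theorem tab7p3_ok : okTabPart sData (basT.getD 7 0) (basW.getD 7 []) 12 4 = true := by
  decide +kernel

theorem tab7p4_ok : okTabPart sData (basT.getD 7 0) (basW.getD 7 []) 16 3 = true := by
  decide +kernel

theorem basTab7 : okTab sData (basT.getD 7 0) (basW.getD 7 []) = true := by
  refine okTab_of_covers fun j hj => ?_
  by_cases h0 : j < 4
  · exact ⟨0, 4, tab7p0_ok, by omega, by omega⟩
  by_cases h1 : j < 8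
  · exact ⟨4, 4, tab7p1_ok, by omega, by omega⟩
  by_cases h2 : j < 12
  · exact ⟨8, 4, tab7p2_ok, by omega, by omega⟩
  by_cases h3 : j < 16
  · exact ⟨12, 4, tab7p3_ok, by omega, by omega⟩
  exact ⟨16, 3, tab7p4_ok, by omega, by omega⟩

theorem tab8p0_ok : okTabPart sData (basT.getD 8 0) (basW.getD 8 []) 0 3 = true := by
  decide +kernel

theorem tab8p1_ok : okTabPart sData (basT.getD 8 0) (basW.getD 8 []) 3 3 = true := by
  decide +kernel

theorem tab8p2_ok : okTabPart sData (basT.getD 8 0) (basW.getD 8 []) 6 3 = true := by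
  decide +kernel

theorem tab8p3_ok : okTabPart sData (basT.getD 8 0) (basW.getD 8 []) 9 3 = true := by
  decide +kernel

theorem tab8p4_ok : okTabPart sData (basT.getD 8 0) (basW.getD 8 []) 12 3 = true := by
  decide +kernel

theorem tab8p5_ok : okTabPart sData (basT.getD 8 0) (basW.getD 8 []) 15 2 = true := by
  decide +kernel

theorem tab8p6_ok : okTabPart sData (basT.getD 8 0) (basW.getD 8 []) 17 2 = true := by
  decide +kernel

theorem basTab8 : okTab sData (basT.getD 8 0) (basW.getD 8 []) = true := by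
  refine okTab_of_covers fun j hj => ?_
  by_cases h0 : j < 3
  · exact ⟨0, 3, tab8p0_ok, by omega, by omega⟩
  by_cases h1 : j < 6
  · exact ⟨3, 3, tab8p1_ok, by omega, by omega⟩
  by_cases h2 : j < 9
  · exact ⟨6, 3, tab8p2_ok, by omega, by omega⟩
  by_cases h3 : j < 12
  · exact ⟨9, 3, tab8p3_ok, by omega, by omega⟩
  by_cases h4 : j < 15
  · exact ⟨12, 3, tab8p4_ok, by omega, by omega⟩
  by_cases h5 : j < 17
  · exact ⟨15, 2, tab8p5_ok, by omega, by omega⟩
  exact ⟨17, 2, tab8p6_ok, by omega, by omega⟩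

theorem tab9p0_ok : okTabPart sData (basT.getD 9 0) (basW.getD 9 []) 0 3 = true := by
  decide +kernel

theorem tab9p1_ok : okTabPart sData (basT.getD 9 0) (basW.getD 9 []) 3 3 = true := by
  decide +kernel

theorem tab9p2_ok : okTabPart sData (basT.getD 9 0) (basW.getD 9 []) 6 3 = true := by
  decide +kernel

theorem tab9p3_ok : okTabPart sData (basT.getD 9 0) (basW.getD 9 []) 9 3 = true := by
  decide +kernel

theorem tab9p4_ok : okTabPart sData (basT.getD 9 0) (basW.getD 9 []) 12 3 = true := by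
  decide +kernel

theorem tab9p5_ok : okTabPart sData (basT.getD 9 0) (basW.getD 9 []) 15 2 = true := by
  decide +kernel

theorem tab9p6_ok : okTabPart sData (basT.getD 9 0) (basW.getD 9 []) 17 2 = true := by
  decide +kernel

theorem basTab9 : okTab sData (basT.getD 9 0) (basW.getD 9 []) = true := by
  refine okTab_of_covers fun j hj => ?_
  by_cases h0 : j < 3
  · exact ⟨0, 3, tab9p0_ok, by omega, by omega⟩
  by_cases h1 : j < 6
  · exact ⟨3, 3, tab9p1_ok, by omega, by omega⟩
  by_cases h2 : j < 9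
  · exact ⟨6, 3, tab9p2_ok, by omega, by omega⟩
  by_cases h3 : j < 12
  · exact ⟨9, 3, tab9p3_ok, by omega, by omega⟩
  by_cases h4 : j < 15
  · exact ⟨12, 3, tab9p4_ok, by omega, by omega⟩
  by_cases h5 : j < 17
  · exact ⟨15, 2, tab9p5_ok, by omega, by omega⟩
  exact ⟨17, 2, tab9p6_ok, by omega, by omega⟩

end CfsgLib.Spor.Fi24Invol
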