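import Cfsg.Agent.Lib.Spor.Fi24Invol.Data
import Cfsg.Agent.Lib.Spor.Fi24Invol.TabParts

/-!
Checks of the tables of the basic elements.
-/

set_option maxRecDepth 100000
set_option maxHeartbeats 0
set_option Elab.async false

namespace CfsgLib.Spor.Fi24Invol

open CfsgLib.BitPerm

theorem tab10p0_ok : okTabPart sData (basT.getD 10 0) (basW.getD 10 []) 0 19 = true := by
  decide +kernel

theorem basTab10 : okTab sData (basT.getD 10 0) (basW.getD 10 []) = true := by
  refine okTab_of_covers fun j hj => ?_
  exact ⟨0, 19, tab10p0_ok, by omega, by omega⟩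

theorem tab11p0_ok : okTabPart sData (basT.getD 11 0) (basW.getD 11 []) 0 19 = true := by
  decide +kernel

theorem basTab11 : okTab sData (basT.getD 11 0) (basW.getD 11 []) = true := by
  refine okTab_of_covers fun j hj => ?_
  exact ⟨0, 19, tab11p0_ok, by omega, by omega⟩

theorem tab12p0_ok : okTabPart sData (basT.getD 12 0) (basW.getD 12 []) 0 19 = true := by
  decide +kernel

theorem basTab12 : okTab sData (basT.getD 12 0) (basW.getD 12 []) = true := by
  refine okTab_of_covers fun j hj => ?_
  exact ⟨0, 19, tab12p0_ok, by omega, by omega⟩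

theorem tab13p0_ok : okTabPart sData (basT.getD 13 0) (basW.getD 13 []) 0 10 = true := by
  decide +kernel

theorem tab13p1_ok : okTabPart sData (basT.getD 13 0) (basW.getD 13 []) 10 9 = true := by
  decide +kernel

theorem basTab13 : okTab sData (basT.getD 13 0) (basW.getD 13 []) = true := by
  refine okTab_of_covers fun j hj => ?_
  by_cases h0 : j < 10
  · exact ⟨0, 10, tab13p0_ok, by omega, by omega⟩
  exact ⟨10, 9, tab13p1_ok, by omega, by omega⟩

theorem tab14p0_ok : okTabPart sData (basT.getD 14 0) (basW.getD 14 []) 0 19 = true := by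
  decide +kernel

theorem basTab14 : okTab sData (basT.getD 14 0) (basW.getD 14 []) = true := by
  refine okTab_of_covers fun j hj => ?_
  exact ⟨0, 19, tab14p0_ok, by omega, by omega⟩

theorem tab15p0_ok : okTabPart sData (basT.getD 15 0) (basW.getD 15 []) 0 19 = true := by
  decide +kernel

theorem basTab15 : okTab sData (basT.getD 15 0) (basW.getD 15 []) = true := by
  refine okTab_of_covers fun j hj => ?_
  exact ⟨0, 19, tab15p0_ok, by omega, by omega⟩

theorem tab16p0_ok : okTabPart sData (basT.getD 16 0) (basW.getD 16 []) 0 10 = true := by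
  decide +kernel

theorem tab16p1_ok : okTabPart sData (basT.getD 16 0) (basW.getD 16 []) 10 9 = true := by
  decide +kernel

theorem basTab16 : okTab sData (basT.getD 16 0) (basW.getD 16 []) = true := by
  refine okTab_of_covers fun j hj => ?_
  by_cases h0 : j < 10
  · exact ⟨0, 10, tab16p0_ok, by omega, by omega⟩
  exact ⟨10, 9, tab16p1_ok, by omega, by omega⟩

theorem tab17p0_ok : okTabPart sData (basT.getD 17 0) (basW.getD 17 []) 0 10 = true := by
  decide +kernel

theorem tab17p1_ok : okTabPart sData (basT.getD 17 0) (basW.getD 17 []) 10 9 = true := by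
  decide +kernel

theorem basTab17 : okTab sData (basT.getD 17 0) (basW.getD 17 []) = true := by
  refine okTab_of_covers fun j hj => ?_
  by_cases h0 : j < 10
  · exact ⟨0, 10, tab17p0_ok, by omega, by omega⟩
  exact ⟨10, 9, tab17p1_ok, by omega, by omega⟩

theorem tab18p0_ok : okTabPart sData (basT.getD 18 0) (basW.getD 18 []) 0 10 = true := by
  decide +kernel

theorem tab18p1_ok : okTabPart sData (basT.getD 18 0) (basW.getD 18 []) 10 9 = true := by
  decide +kernel

theorem basTab18 : okTab sData (basT.getD 18 0) (basW.getD 18 []) = true := by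
  refine okTab_of_covers fun j hj => ?_
  by_cases h0 : j < 10
  · exact ⟨0, 10, tab18p0_ok, by omega, by omega⟩
  exact ⟨10, 9, tab18p1_ok, by omega, by omega⟩

theorem tab19p0_ok : okTabPart sData (basT.getD 19 0) (basW.getD 19 []) 0 10 = true := by
  decide +kernel

theorem tab19p1_ok : okTabPart sData (basT.getD 19 0) (basW.getD 19 []) 10 9 = true := by
  decide +kernel

theorem basTab19 : okTab sData (basT.getD 19 0) (basW.getD 19 []) = true := by
  refine okTab_of_covers fun j hj => ?_
  by_cases h0 : j < 10
  · exact ⟨0, 10, tab19p0_ok, by omega, by omega⟩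
  exact ⟨10, 9, tab19p1_ok, by omega, by omega⟩

theorem tab20p0_ok : okTabPart sData (basT.getD 20 0) (basW.getD 20 []) 0 10 = true := by
  decide +kernel

theorem tab20p1_ok : okTabPart sData (basT.getD 20 0) (basW.getD 20 []) 10 9 = true := by
  decide +kernel

theorem basTab20 : okTab sData (basT.getD 20 0) (basW.getD 20 []) = true := by
  refine okTab_of_covers fun j hj => ?_
  by_cases h0 : j < 10
  · exact ⟨0, 10, tab20p0_ok, by omega, by omega⟩
  exact ⟨10, 9, tab20p1_ok, by omega, by omega⟩

theorem tab21p0_ok : okTabPart sData (basT.getD 21 0) (basW.getD 21 []) 0 19 = true := by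
  decide +kernel

theorem basTab21 : okTab sData (basT.getD 21 0) (basW.getD 21 []) = true := by
  refine okTab_of_covers fun j hj => ?_
  exact ⟨0, 19, tab21p0_ok, by omega, by omega⟩

end CfsgLib.Spor.Fi24Invol
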