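import Cfsg.Agent.Lib.Spor.Fi24Invol.Data
import Cfsg.Agent.Lib.Spor.Fi24Invol.TabParts

/-!
Checks of the tables of the basic elements.
-/

set_option maxRecDepth 100000
set_option maxHeartbeats 0
set_option Elab.async false

namespace CfsgLib.Spor.Fi24Invol

open CfsgLib.BitPerm

theorem tab22p0_ok : okTabPart sData (basT.getD 22 0) (basW.getD 22 []) 0 10 = true := by
  decide +kernel

theorem tab22p1_ok : okTabPart sData (basT.getD 22 0) (basW.getD 22 []) 10 9 = true := by
  decide +kernel

theorem basTab22 : okTab sData (basT.getD 22 0) (basW.getD 22 []) = true := by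
  refine okTab_of_covers fun j hj => ?_
  by_cases h0 : j < 10
  · exact ⟨0, 10, tab22p0_ok, by omega, by omega⟩
  exact ⟨10, 9, tab22p1_ok, by omega, by omega⟩

theorem tab23p0_ok : okTabPart sData (basT.getD 23 0) (basW.getD 23 []) 0 10 = true := by
  decide +kernel

theorem tab23p1_ok : okTabPart sData (basT.getD 23 0) (basW.getD 23 []) 10 9 = true := by
  decide +kernel

theorem basTab23 : okTab sData (basT.getD 23 0) (basW.getD 23 []) = true := by
  refine okTab_of_covers fun j hj => ?_
  by_cases h0 : j < 10
  · exact ⟨0, 10, tab23p0_ok, by omega, by omega⟩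
  exact ⟨10, 9, tab23p1_ok, by omega, by omega⟩

theorem tab24p0_ok : okTabPart sData (basT.getD 24 0) (basW.getD 24 []) 0 10 = true := by
  decide +kernel

theorem tab24p1_ok : okTabPart sData (basT.getD 24 0) (basW.getD 24 []) 10 9 = true := by
  decide +kernel

theorem basTab24 : okTab sData (basT.getD 24 0) (basW.getD 24 []) = true := by
  refine okTab_of_covers fun j hj => ?_
  by_cases h0 : j < 10
  · exact ⟨0, 10, tab24p0_ok, by omega, by omega⟩
  exact ⟨10, 9, tab24p1_ok, by omega, by omega⟩

theorem tab25p0_ok : okTabPart sData (basT.getD 25 0) (basW.getD 25 []) 0 10 = true := by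
  decide +kernel

theorem tab25p1_ok : okTabPart sData (basT.getD 25 0) (basW.getD 25 []) 10 9 = true := by
  decide +kernel

theorem basTab25 : okTab sData (basT.getD 25 0) (basW.getD 25 []) = true := by
  refine okTab_of_covers fun j hj => ?_
  by_cases h0 : j < 10
  · exact ⟨0, 10, tab25p0_ok, by omega, by omega⟩
  exact ⟨10, 9, tab25p1_ok, by omega, by omega⟩

theorem tab26p0_ok : okTabPart sData (basT.getD 26 0) (basW.getD 26 []) 0 10 = true := by
  decide +kernel

theorem tab26p1_ok : okTabPart sData (basT.getD 26 0) (basW.getD 26 []) 10 9 = true := by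
  decide +kernel

theorem basTab26 : okTab sData (basT.getD 26 0) (basW.getD 26 []) = true := by
  refine okTab_of_covers fun j hj => ?_
  by_cases h0 : j < 10
  · exact ⟨0, 10, tab26p0_ok, by omega, by omega⟩
  exact ⟨10, 9, tab26p1_ok, by omega, by omega⟩

theorem tab27p0_ok : okTabPart sData (basT.getD 27 0) (basW.getD 27 []) 0 10 = true := by
  decide +kernel

theorem tab27p1_ok : okTabPart sData (basT.getD 27 0) (basW.getD 27 []) 10 9 = true := by
  decide +kernel

theorem basTab27 : okTab sData (basT.getD 27 0) (basW.getD 27 []) = true := by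
  refine okTab_of_covers fun j hj => ?_
  by_cases h0 : j < 10
  · exact ⟨0, 10, tab27p0_ok, by omega, by omega⟩
  exact ⟨10, 9, tab27p1_ok, by omega, by omega⟩

theorem tab28p0_ok : okTabPart sData (basT.getD 28 0) (basW.getD 28 []) 0 10 = true := by
  decide +kernel

theorem tab28p1_ok : okTabPart sData (basT.getD 28 0) (basW.getD 28 []) 10 9 = true := by
  decide +kernel

theorem basTab28 : okTab sData (basT.getD 28 0) (basW.getD 28 []) = true := by
  refine okTab_of_covers fun j hj => ?_
  by_cases h0 : j < 10
  · exact ⟨0, 10, tab28p0_ok, by omega, by omega⟩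
  exact ⟨10, 9, tab28p1_ok, by omega, by omega⟩

theorem tab29p0_ok : okTabPart sData (basT.getD 29 0) (basW.getD 29 []) 0 10 = true := by
  decide +kernel

theorem tab29p1_ok : okTabPart sData (basT.getD 29 0) (basW.getD 29 []) 10 9 = true := by
  decide +kernel

theorem basTab29 : okTab sData (basT.getD 29 0) (basW.getD 29 []) = true := by
  refine okTab_of_covers fun j hj => ?_
  by_cases h0 : j < 10
  · exact ⟨0, 10, tab29p0_ok, by omega, by omega⟩
  exact ⟨10, 9, tab29p1_ok, by omega, by omega⟩

theorem tab30p0_ok : okTabPart sData (basT.getD 30 0) (basW.getD 30 []) 0 10 = true := by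
  decide +kernel

theorem tab30p1_ok : okTabPart sData (basT.getD 30 0) (basW.getD 30 []) 10 9 = true := by
  decide +kernel

theorem basTab30 : okTab sData (basT.getD 30 0) (basW.getD 30 []) = true := by
  refine okTab_of_covers fun j hj => ?_
  by_cases h0 : j < 10
  · exact ⟨0, 10, tab30p0_ok, by omega, by omega⟩
  exact ⟨10, 9, tab30p1_ok, by omega, by omega⟩

theorem tab31p0_ok : okTabPart sData (basT.getD 31 0) (basW.getD 31 []) 0 10 = true := by
  decide +kernel

theorem tab31p1_ok : okTabPart sData (basT.getD 31 0) (basW.getD 31 []) 10 9 = true := by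
  decide +kernel

theorem basTab31 : okTab sData (basT.getD 31 0) (basW.getD 31 []) = true := by
  refine okTab_of_covers fun j hj => ?_
  by_cases h0 : j < 10
  · exact ⟨0, 10, tab31p0_ok, by omega, by omega⟩
  exact ⟨10, 9, tab31p1_ok, by omega, by omega⟩

theorem tab32p0_ok : okTabPart sData (basT.getD 32 0) (basW.getD 32 []) 0 10 = true := by
  decide +kernel

theorem tab32p1_ok : okTabPart sData (basT.getD 32 0) (basW.getD 32 []) 10 9 = true := by
  decide +kernel

theorem basTab32 : okTab sData (basT.getD 32 0) (basW.getD 32 []) = true := by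
  refine okTab_of_covers fun j hj => ?_
  by_cases h0 : j < 10
  · exact ⟨0, 10, tab32p0_ok, by omega, by omega⟩
  exact ⟨10, 9, tab32p1_ok, by omega, by omega⟩

theorem tab33p0_ok : okTabPart sData (basT.getD 33 0) (basW.getD 33 []) 0 7 = true := by
  decide +kernel

theorem tab33p1_ok : okTabPart sData (basT.getD 33 0) (basW.getD 33 []) 7 6 = true := by
  decide +kernel

theorem tab33p2_ok : okTabPart sData (basT.getD 33 0) (basW.getD 33 []) 13 6 = true := by
  decide +kernel

theorem basTab33 : okTab sData (basT.getD 33 0) (basW.getD 33 []) = true := by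
  refine okTab_of_covers fun j hj => ?_
  by_cases h0 : j < 7
  · exact ⟨0, 7, tab33p0_ok, by omega, by omega⟩
  by_cases h1 : j < 13
  · exact ⟨7, 6, tab33p1_ok, by omega, by omega⟩
  exact ⟨13, 6, tab33p2_ok, by omega, by omega⟩

end CfsgLib.Spor.Fi24Invol
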