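import Cfsg.Agent.Lib.Spor.Fi24Invol.Words
import Cfsg.Agent.Lib.Spor.Fi24Invol.Masks

/-!
Pairwise commuting transpositions: a clique of at most four is conjugate to a standard one, and counts of
fixed points separate the lengths.
-/

set_option autoImplicit false

namespace CfsgLib.Spor.Fi24Invol

open CfsgLib.BitPerm CfsgLib.PresCert Cfsg.Spor
open CfsgLib.Spor.Fi24 (π sys i₀ idx gen gen_sq numGen cosetFacts okNets)

local notation "G24" => Cfsg.Spor.Fi24
local notation "Pt" => Fin 306936

theorem testBit_fixM {w : List Nat} (hw : okLetters w = true) (i : Pt) :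
    (fixM w).testBit i = true ↔ π (wEl w) i = i := by
  have hlt : (i : ℕ) < 2 ^ 19 := lt_trans i.2 (by norm_num)
  have hlt' : sys.ptW w i < 2 ^ 19 := by
    rw [← π_wEl hw i]; exact lt_trans (Fin.is_lt _) (by norm_num)
  rw [fixM, testBit_fixM_aux, Fin.ext_iff, π_wEl hw]
  refine ⟨fun h => Nat.eq_of_testBit_eq fun j => ?_, fun h => ⟨i.2, fun j hj => ?_⟩⟩
  · by_cases hj : j < 19
    · have := h.2 j hj
      rw [Sys.testBit_actW okNets, testBit_plane, testBit_plane] at this
      have g1 : (i : ℕ) < 524288 := hlt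
      have g2 : sys.ptW w i < 524288 := hlt'
      simpa [g1, g2] using this
    · rw [Nat.testBit_lt_two_pow (lt_of_lt_of_le hlt' (Nat.pow_le_pow_right (by norm_num) (by omega))),
        Nat.testBit_lt_two_pow (lt_of_lt_of_le hlt (Nat.pow_le_pow_right (by norm_num) (by omega)))]
  · rw [Sys.testBit_actW okNets, h]

/-- the number of fixed points -/
noncomputable def fixNum (x : G24) : ℕ := Nat.card {i : Pt // π x i = i}

theorem fixNum_conj {x y : G24} (h : IsConj x y) : fixNum x = fixNum y := by
  obtain ⟨g, rfl⟩ := isConj_iff.1 h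
  refine Nat.card_congr ((π g).subtypeEquiv fun i => ?_)
  rw [map_mul, map_mul, map_inv, Equiv.Perm.mul_apply, Equiv.Perm.mul_apply, Equiv.Perm.inv_def,
    Equiv.symm_apply_apply, EmbeddingLike.apply_eq_iff_eq]

theorem fixNum_le {w : List Nat} (hw : okLetters w = true) {L : List Nat}
    (h : Nat.beq (fixM w) (bitsOf L) = true) : fixNum (wEl w) ≤ L.length := by
  classical
  have e := Nat.eq_of_beq_eq_true h
  let f : {i : Pt // π (wEl w) i = i} → {n // n ∈ L.toFinset} := fun i => ⟨(i.1 : ℕ), by
    have := (testBit_fixM hw i.1).2 i.2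
    rw [e, testBit_bitsOf] at this
    simpa using this⟩
  have hf : Function.Injective f := fun a b e => Subtype.ext (Fin.ext (congrArg Subtype.val e))
  refine le_trans (Nat.card_le_card_of_injective f hf) ?_
  rw [Nat.card_eq_finsetCard]
  exact L.toFinset_card_le

theorem le_fixNum {w : List Nat} (hw : okLetters w = true) {L : List Nat}
    (h : okMembers (fixM w) L 0 = true) : L.length ≤ fixNum (wEl w) := by
  obtain ⟨hnd, hL⟩ := okMembers_spec L 0 h
  have hlt : ∀ x ∈ L, x < 306936 := fun x hx => by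
    have := (hL x hx).2
    rw [fixM, testBit_fixM_aux] at this
    exact this.1
  let f : Fin L.length → {i : Pt // π (wEl w) i = i} := fun k =>
    ⟨⟨L[k], hlt _ (List.getElem_mem _)⟩, (testBit_fixM hw _).1 (hL _ (List.getElem_mem _)).2⟩
  have hf : Function.Injective f := fun a b e => Fin.ext
    ((hnd.getElem_inj_iff (hi := a.2) (hj := b.2)).1 (congrArg (fun z => (z.1 : ℕ)) e))
  have := Nat.card_le_card_of_injective f hf
  rwa [Nat.card_fin] at this

/-- a point reaches another one by elements fixing some points -/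
theorem reach {ws : List (List Nat)} {p : Pt} {skip : List Nat} {M : Nat}
    (h : okReach ws p skip M = true) (hws : ∀ u ∈ ws, okLetters u = true) {fixed : List Pt}
    (hfix : ∀ u ∈ ws, ∀ q ∈ fixed, sys.ptW u q = (q : ℕ)) {i : Pt} (hi : M.testBit i = true)
    (hskip : (i : ℕ) ∉ skip) : ∃ g : G24, π g i = p ∧ ∀ q ∈ fixed, π g q = q := by
  rw [okReach, force_eq] at h
  have e := congrArg (fun B => Nat.testBit B i) (Nat.eq_of_beq_eq_true h)
  change ((growW ws (1 <<< (p : ℕ)) ||| bitsOf skip) &&& M).testBit i = M.testBit i at e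
  rw [Nat.testBit_and, Nat.testBit_or, testBit_bitsOf, hi] at e
  simp only [hskip, decide_false, Bool.or_false, Bool.and_true] at e
  obtain ⟨us, hus, h1⟩ := testBit_growW ws _ i okNets e
  rw [Nat.one_shiftLeft, Nat.testBit_two_pow] at h1
  have hok : okLetters us.flatten = true := okLetters_iff.2 fun n hn => by
    obtain ⟨u, hu, hn⟩ := List.mem_flatten.1 hn
    exact okLetters_iff.1 (hws u (hus u hu)) n hn
  refine ⟨wEl us.flatten, Fin.ext ?_, fun q hq => Fin.ext ?_⟩
  · rw [π_wEl hok]; exact (of_decide_eq_true h1).symm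
  · rw [π_wEl hok]
    clear h1 hok
    induction us with
    | nil => rfl
    | cons u us ih =>
      rw [List.flatten_cons, Sys.ptW_append, hfix u (hus u (List.mem_cons_self ..)) q hq]
      exact ih fun v hv => hus v (List.mem_cons_of_mem _ hv)

theorem commute_tp_tp {p q : Pt} : Commute (tp p) (tp q) ↔ π (tp p) q = q := commute_tp_iff _ _

theorem conj_prod (g : G24) : ∀ L : List Pt, g * (L.map tp).prod * g⁻¹ = ((L.map (π g)).map tp).prod
  | [] => by simp
  | p :: L => by
    simp only [List.map_cons, List.prod_cons]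
    rw [← conj_prod g L, ← conj_tp g p]
    group

/-- distinct points with pairwise commuting transpositions -/
def IsClique (L : List Pt) : Prop := L.Nodup ∧ ∀ a ∈ L, ∀ b ∈ L, π (tp a) b = b

theorem IsClique.map {L : List Pt} (h : IsClique L) (g : G24) : IsClique (L.map (π g)) := by
  refine ⟨h.1.map (π g).injective, fun a ha b hb => ?_⟩
  obtain ⟨a, ha', rfl⟩ := List.mem_map.1 ha
  obtain ⟨b, hb', rfl⟩ := List.mem_map.1 hb
  rw [← conj_tp g a, map_mul, map_mul, map_inv, Equiv.Perm.mul_apply, Equiv.Perm.mul_apply,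
    Equiv.Perm.inv_def, Equiv.symm_apply_apply, h.2 a ha' b hb']

theorem exists_clique {l : List G24} (hn : l.Nodup) (hD : ∀ a ∈ l, a ∈ conjugatesOf (gen (.l : Fi24.Gen)))
    (hc : ∀ a ∈ l, ∀ b ∈ l, Commute a b) : ∃ L : List Pt, IsClique L ∧ L.map tp = l := by
  suffices ∃ L : List Pt, L.map tp = l by
    obtain ⟨L, rfl⟩ := this
    exact ⟨L, ⟨List.Nodup.of_map _ hn, fun a ha b hb =>
      commute_tp_tp.1 (hc _ (List.mem_map_of_mem ha) _ (List.mem_map_of_mem hb))⟩, rfl⟩
  clear hn hc
  induction l with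
  | nil => exact ⟨[], rfl⟩
  | cons a l ih =>
    obtain ⟨p, rfl⟩ := exists_tp (hD a (List.mem_cons_self ..))
    obtain ⟨L, rfl⟩ := ih fun b hb => hD b (List.mem_cons_of_mem _ hb)
    exact ⟨p :: L, rfl⟩

theorem IsClique.facts {L : List Pt} (h : IsClique L) :
    (L.map tp).Nodup ∧ (∀ a ∈ L.map tp, a ∈ conjugatesOf (gen (.l : Fi24.Gen))) ∧
      ∀ a ∈ L.map tp, ∀ b ∈ L.map tp, Commute a b := by
  refine ⟨h.1.map cls.tp_injective, fun a ha => ?_, fun a ha b hb => ?_⟩
  · obtain ⟨p, -, rfl⟩ := List.mem_map.1 ha; exact tp_mem p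
  · obtain ⟨p, hp, rfl⟩ := List.mem_map.1 ha
    obtain ⟨q, hq, rfl⟩ := List.mem_map.1 hb
    exact commute_tp_tp.2 (h.2 p hp q hq)

theorem clique_sq {L : List Pt} (h : IsClique L) : (L.map tp).prod * (L.map tp).prod = 1 := by
  induction L with
  | nil => simp
  | cons p L ih =>
    have hL : IsClique L := ⟨(List.nodup_cons.1 h.1).2, fun a ha b hb =>
      h.2 a (List.mem_cons_of_mem _ ha) b (List.mem_cons_of_mem _ hb)⟩
    have hc : Commute (tp p) (L.map tp).prod := Commute.list_prod_right _ _ fun z hz => by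
      obtain ⟨q, hq, rfl⟩ := List.mem_map.1 hz
      exact commute_tp_tp.2 (h.2 p (List.mem_cons_self ..) q (List.mem_cons_of_mem _ hq))
    rw [List.map_cons, List.prod_cons]
    calc tp p * (L.map tp).prod * (tp p * (L.map tp).prod)
        = tp p * ((L.map tp).prod * tp p) * (L.map tp).prod := by group
      _ = tp p * tp p * ((L.map tp).prod * (L.map tp).prod) := by rw [← hc.eq]; group
      _ = 1 := by rw [tp_sq, ih hL, one_mul]

theorem parity_prod : ∀ L : List Pt, Fi24.parity (L.map tp).prod = (-1) ^ L.length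
  | [] => by simp
  | p :: L => by
    rw [List.map_cons, List.prod_cons, map_mul, parity_prod L, List.length_cons, pow_succ']
    obtain ⟨g, rfl⟩ := cls.trans p
    rw [tp, cls.tp_of_eq (g := g) rfl, show cls.z = gen (.l : Fi24.Gen) from rfl]
    simp [Fi24.parity_gen, mul_comm, mul_left_comm]

end CfsgLib.Spor.Fi24Invol
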