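import Cfsg.Agent.Lib.Spor.Fi24Invol.Classify
import Cfsg.Agent.Lib.Spor.Fi24Invol.Cliques
import Cfsg.Agent.Lib.Spor.Fi24Invol.Pairs

/-!
Generation from the separating points, and representatives as products of commuting transpositions.
-/

set_option autoImplicit false

namespace CfsgLib.Spor.Fi24Invol

open CfsgLib.BitPerm CfsgLib.PresCert Cfsg.Spor
open CfsgLib.Spor.Fi24 (π sys i₀ idx gen gen_sq numGen cosetFacts okNets)

local notation "G24" => Cfsg.Spor.Fi24
local notation "Pt" => Fin 306936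

theorem okPairs_spec {w : List Nat} (hw : okLetters w = true) {pairs : List (Nat × Nat)}
    (h : okPairs w pairs = true) {p : Nat × Nat} (hp : p ∈ pairs) :
    p.1 < 306936 ∧ p.2 < 306936 ∧ sys.ptW (tW w) p.1 = p.2 := by
  have hrow : ∀ j < 19, (p.1 < 306936 ∧ p.2 < 306936) ∧
      (sys.actW (tW w) (plane j 19)).testBit p.1 = p.2.testBit j := by
    intro j hj
    rw [okPairs] at h
    have h' := allLt_spec h j hj
    rw [force_eq, List.all_eq_true] at h'
    have h'' := h' p hp
    simp only [Bool.and_eq_true, Nat.blt_eq] at h''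
    refine ⟨h''.1, ?_⟩
    have hb := h''.2
    revert hb
    show Bool.rec _ _ ((sys.actW (tW w) (plane j 19)).testBit p.1) = true → _
    cases hA : (sys.actW (tW w) (plane j 19)).testBit p.1 <;> intro hb
    · have e := Nat.eq_of_beq_eq_true hb
      change p.2 >>> j &&& 1 = 0 at e
      rw [Nat.and_one_is_mod] at e
      rw [Nat.testBit, Nat.one_and_eq_mod_two, e]; rfl
    · have e := Nat.eq_of_beq_eq_true hb
      change p.2 >>> j &&& 1 = 1 at e
      rw [Nat.and_one_is_mod] at e
      rw [Nat.testBit, Nat.one_and_eq_mod_two, e]; rfl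
  obtain ⟨h1, h2⟩ := (hrow 0 (by norm_num)).1
  refine ⟨h1, h2, ?_⟩
  have hp : sys.ptW (tW w) p.1 < 306936 := by
    rw [← π_wEl (okLetters_tW hw) ⟨p.1, h1⟩]; exact Fin.is_lt _
  refine Nat.eq_of_testBit_eq fun j => ?_
  by_cases hj : j < 19
  · rw [← (hrow j hj).2, Sys.testBit_actW okNets, testBit_plane]
    have h19 : sys.ptW (tW w) p.1 < 524288 := lt_trans hp (by norm_num)
    simp [h19]
  · have e : ∀ x < 306936, Nat.testBit x j = false := fun x hx =>
      Nat.testBit_lt_two_pow (lt_of_lt_of_le (show x < 2 ^ 19 from lt_trans hx (by norm_num))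
        (Nat.pow_le_pow_right (by norm_num) (not_lt.1 hj)))
    rw [e _ hp, e _ h2]

theorem lookup_mem : ∀ (pairs : List (Nat × Nat)) (a : Nat), lookup pairs a ≠ 999999 →
    (a, lookup pairs a) ∈ pairs
  | [], _, h => absurd rfl h
  | p :: ps, a, h => by
    have e : lookup (p :: ps) a = Bool.rec (lookup ps a) p.2 (Nat.beq p.1 a) := rfl
    cases hb : Nat.beq p.1 a
    · rw [hb] at e; rw [e] at h ⊢
      exact List.mem_cons_of_mem _ (lookup_mem ps a h)
    · rw [hb] at e; rw [e]
      rw [← Nat.eq_of_beq_eq_true hb]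
      exact List.mem_cons_self ..

theorem ptW_lt_iff : ∀ (w : List Nat) (i : Nat), sys.ptW w i < 306936 ↔ i < 306936
  | [], _ => Iff.rfl
  | x :: w, i => by rw [Sys.ptW, ptW_lt_iff w, Fi24.inside x i]

theorem okDerive_spec : ∀ (st : List (List Nat × Nat × Nat)) (known target : List Nat),
    okDerive st known target = true → ∀ (K : Subgroup G24),
      (∀ k ∈ known, ∀ q : Pt, (q : ℕ) = k → tp q ∈ K) → ∀ t ∈ target, ∀ q : Pt, (q : ℕ) = t → tp q ∈ K
  | [], known, target, h, K, hK, t, ht, q, hq => by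
    simp only [okDerive, List.all_eq_true, List.any_eq_true, Nat.beq_eq] at h
    obtain ⟨k, hk, rfl⟩ := h t ht
    exact hK k hk q hq
  | (w, b, c) :: st, known, target, h, K, hK, t, ht, q, hq => by
    simp only [okDerive, Bool.and_eq_true, List.any_eq_true, Nat.beq_eq] at h
    obtain ⟨⟨⟨⟨hw, hc⟩, k₁, hk₁, e₁⟩, k₂, hk₂, e₂⟩, hst⟩ := h
    refine okDerive_spec st _ target hst K (fun k hk r hr => ?_) t ht q hq
    rcases List.mem_cons.1 hk with hkc | hk
    · rw [hkc] at hr
      have hw' : okLetters w = true := hw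
      let pa : Pt := π (wEl w) i₀
      have hpa : sys.ptW w 0 = (pa : ℕ) := (π_wEl hw' i₀).symm
      have hblt : b < 306936 := (ptW_lt_iff (tW w) b).1 (by
        rw [show sys.ptW (tW w) b = c from hc, ← hr]; exact r.2)
      have e : r = π (tp pa) ⟨b, hblt⟩ := Fin.ext (by rw [π_tp hw' hpa, hr]; exact hc.symm)
      rw [e, ← conj_tp]
      have ha : tp pa ∈ K := hK k₂ hk₂ pa (hpa.symm.trans e₂.symm)
      exact mul_mem (mul_mem ha (hK k₁ hk₁ _ e₁.symm)) (inv_mem ha)
    · exact hK k hk r hr

/-- a witness: the transpositions of the listed indices, as a product -/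
noncomputable def okWit (d : PcData) (qW : List (List Nat)) (qP : List (List (Nat × Nat))) (r : Nat)
    (ks : List Nat) : Bool :=
  ((d.Qi.all fun i => Nat.beq (List.rec (fld 20 d.S i) (fun k _ x => lookup (qP.getD k []) x) ks)
      (fld 20 d.S (appT d.Ts (bitsW r) i))) &&
    ks.all fun k => Nat.blt k qW.length && ks.all fun k' =>
      Nat.beq (lookup (qP.getD k []) (CfsgLib.BitPerm.Sys.ptW Fi24.sys (qW.getD k' []) 0))
        (CfsgLib.BitPerm.Sys.ptW Fi24.sys (qW.getD k' []) 0)) &&
  decide ((ks.map fun k => CfsgLib.BitPerm.Sys.ptW Fi24.sys (qW.getD k []) 0).Nodup)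

variable {d : PcData} {el : Nat → G24}

theorem PcData.Good.witness (G : d.Good el) {qW : List (List Nat)} {qP : List (List (Nat × Nat))}
    (hq : ∀ k < qW.length, okLetters (qW.getD k []) = true ∧ okPairs (qW.getD k []) (qP.getD k []) = true)
    {r : Nat} {ks : List Nat} (h : okWit d qW qP r ks = true) :
    ∃ L : List Pt, IsClique L ∧ L.length = ks.length ∧ (L.map tp).prod = ev el (bitsW r) := by
  simp only [okWit, Bool.and_eq_true, List.all_eq_true, Nat.beq_eq, Nat.blt_eq, decide_eq_true_eq] at h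
  obtain ⟨⟨hprod, hks⟩, hnd⟩ := h
  let pt : Nat → Pt := fun k => π (wEl (qW.getD k [])) i₀
  have hpt : ∀ k ∈ ks, sys.ptW (qW.getD k []) 0 = (pt k : ℕ) := fun k hk =>
    (π_wEl (hq k (hks k hk).1).1 i₀).symm
  have hstep : ∀ k ∈ ks, ∀ x : Pt, lookup (qP.getD k []) (x : ℕ) ≠ 999999 →
      ((π (tp (pt k)) x : Pt) : ℕ) = lookup (qP.getD k []) (x : ℕ) := fun k hk x hx => by
    obtain ⟨h1, h2⟩ := hq k (hks k hk).1
    rw [π_tp h1 (hpt k hk)]
    exact (okPairs_spec h1 h2 (lookup_mem _ _ hx)).2.2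
  refine ⟨ks.map pt, ⟨?_, ?_⟩, by simp, ?_⟩
  · refine List.Nodup.of_map (fun p : Pt => (p : ℕ)) ?_
    rw [List.map_map]
    exact (List.map_congr_left fun k hk => (hpt k hk).symm) ▸ hnd
  · intro a ha b hb
    obtain ⟨k, hk, rfl⟩ := List.mem_map.1 ha
    obtain ⟨k', hk', rfl⟩ := List.mem_map.1 hb
    have e := (hks k hk).2 k' hk'
    rw [hpt k' hk'] at e
    exact Fin.ext ((hstep k hk _ (by rw [e]; have := (pt k').2; omega)).trans e)
  · refine eq_of_agree G.gen ?_
    rintro _ ⟨i, hi, rfl⟩
    obtain ⟨hlt, heq⟩ := π_prod_tab G.tab (bitsW r) (PcData.Good.bits_lt r) i (G.qlt i hi)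
    rw [ev, heq]
    refine Fin.ext ?_
    rw [sPt_val G.pts hlt, ← hprod i hi]
    have key : ∀ (js : List Nat), (∀ k ∈ js, k ∈ ks) →
        (List.rec (fld 20 d.S i) (fun k _ x => lookup (qP.getD k []) x) js : Nat) < 306936 →
        ((π ((js.map pt).map tp).prod (sPt d.S i) : Pt) : ℕ) =
          List.rec (fld 20 d.S i) (fun k _ x => lookup (qP.getD k []) x) js := by
      intro js
      induction js with
      | nil => intro _ _; simp [sPt_val G.pts (G.qlt i hi)]
      | cons k js ih =>
        intro hmem hlt'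
        have hx : lookup (qP.getD k []) (List.rec (fld 20 d.S i) (fun k _ x => lookup (qP.getD k []) x) js) ≠ 999999 := by
          intro e
          change lookup _ _ < 306936 at hlt'
          omega
        have hk := hmem k (List.mem_cons_self ..)
        obtain ⟨h1, h2⟩ := hq k (hks k hk).1
        have hin := (okPairs_spec h1 h2 (lookup_mem _ _ hx)).1
        rw [List.map_cons, List.map_cons, List.prod_cons, map_mul, Equiv.Perm.mul_apply]
        have e := ih (fun z hz => hmem z (List.mem_cons_of_mem _ hz)) hin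
        show _ = lookup _ _
        rw [hstep k hk _ (by rw [e]; exact hx), e]
    refine key ks (fun _ h => h) ?_
    rw [hprod i hi, ← sPt_val G.pts hlt]
    exact Fin.is_lt _

end CfsgLib.Spor.Fi24Invol
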