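import Cfsg.Agent.Lib.Spor.Fi24Invol.DataWit
import Cfsg.Agent.Lib.Spor.Fi24Invol.DataLevels
import Cfsg.Agent.Lib.Spor.Fi24Invol.Witness
import Cfsg.Agent.Lib.Spor.Fi24Invol.ChkPc

/-!
Checks of the decompositions of the representatives.
-/

set_option maxRecDepth 100000
set_option maxHeartbeats 0

namespace CfsgLib.Spor.Fi24Invol

theorem wit_ok : (List.range (repData.getD 22 []).length).all (fun k =>
    okWit pcData qWords qPairs ((repData.getD 22 []).getD k 0) (witData.getD k []) &&
      Nat.ble (witData.getD k []).length 4) = true := by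
  decide +kernel

theorem qWords_ok : qWords.all (fun w => w.all fun n => Nat.blt n 12) = true := by decide +kernel

end CfsgLib.Spor.Fi24Invol
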