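import Cfsg.Agent.Lib.Spor.Fi24Invol.Main

/-!
The classes of involutions, transported along an isomorphism.
-/

set_option autoImplicit false

namespace CfsgLib.Spor.Fi24Invol

open CfsgLib.Spor.Fi24 (π i₀ gen cosetFacts)

local notation "G24" => Cfsg.Spor.Fi24
local notation "Pt" => Fin 306936

universe u

variable {G : Type u} [Group G] {D : Set G} (e : G ≃* G24) (he : e '' D = conjugatesOf (gen (.l : Cfsg.Spor.Fi24.Gen)))

/-- a product of `m` distinct pairwise commuting members -/
def IsProd (D : Set G) (m : ℕ) (x : G) : Prop :=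
  ∃ l : List G, l.Nodup ∧ l.length = m ∧ (∀ a ∈ l, a ∈ D) ∧ (∀ a ∈ l, ∀ b ∈ l, Commute a b) ∧ l.prod = x

theorem fix_four : fixNum ((stdPts.take 4).map tp).prod ≤ 504 := by
  have h := fixNum_le (okLetters_append (okLetters_append (okLetters_append (okLetters_stdT 3)
    (okLetters_stdT 2)) (okLetters_stdT 1)) (okLetters_stdT 0)) exact_four
  rwa [wEl_quad, lengths_fix.2.2] at h

include he in
theorem isProd_clique {m : ℕ} {x : G} (h : IsProd D m x) :
    ∃ L : List Pt, IsClique L ∧ L.length = m ∧ (L.map tp).prod = e x := by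
  obtain ⟨l, hn, hl, hD, hc, hp⟩ := h
  obtain ⟨L, hL, hLe⟩ := exists_clique (l := l.map e) (hn.map e.injective) (fun a ha => by
    obtain ⟨b, hb, rfl⟩ := List.mem_map.1 ha
    exact he.le ⟨b, hD b hb, rfl⟩) (fun a ha b hb => by
    obtain ⟨a, ha', rfl⟩ := List.mem_map.1 ha
    obtain ⟨b, hb', rfl⟩ := List.mem_map.1 hb
    exact (hc a ha' b hb').map e.toMonoidHom)
  refine ⟨L, hL, ?_, ?_⟩
  · have := congrArg List.length hLe
    simp only [List.length_map] at this
    omega
  · rw [hLe, ← map_list_prod, hp]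

include he in
theorem clique_isProd {L : List Pt} (hL : IsClique L) {x : G} (hx : (L.map tp).prod = e x) :
    IsProd D L.length x := by
  obtain ⟨hn, hD, hc⟩ := hL.facts
  refine ⟨(L.map tp).map e.symm, hn.map e.symm.injective, by simp, fun a ha => ?_, fun a ha b hb => ?_, ?_⟩
  · obtain ⟨y, hy, rfl⟩ := List.mem_map.1 ha
    obtain ⟨b, hb, rfl⟩ := he.ge (hD y hy)
    simpa using hb
  · obtain ⟨y, hy, rfl⟩ := List.mem_map.1 ha
    obtain ⟨z, hz, rfl⟩ := List.mem_map.1 hb
    exact (hc y hy z hz).map e.symm.toMonoidHom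
  · rw [← map_list_prod, hx, e.symm_apply_apply]

include he in
theorem classes_of_iso (hI : ∀ y : G24, y * y = 1 → ∃ L : List Pt, IsClique L ∧ L.length ≤ 4 ∧ (L.map tp).prod = y) :
    (∀ x : G, orderOf x = 2 → ∃ m : ℕ, 1 ≤ m ∧ m ≤ 4 ∧ IsProd D m x) ∧
    (∀ m : ℕ, 1 ≤ m → m ≤ 4 → (∃ x : G, orderOf x = 2 ∧ IsProd D m x) ∧
      ∀ x y : G, IsProd D m x → IsProd D m y → IsConj x y) ∧
    ∀ (m m' : ℕ) (x : G), 1 ≤ m → m ≤ 4 → 1 ≤ m' → m' ≤ 4 → IsProd D m x → IsProd D m' x → m = m' := by
  refine ⟨fun x hx => ?_, fun m h1 h4 => ⟨?_, fun x y hx hy => ?_⟩, fun m m' x h1 h4 h1' h4' hx hy => ?_⟩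
  · have hx2 : e x * e x = 1 := by rw [← map_mul, ← pow_two, ← hx, pow_orderOf_eq_one, map_one]
    obtain ⟨L, hL, hlen, hp⟩ := hI _ hx2
    refine ⟨L.length, ?_, hlen, clique_isProd e he hL hp⟩
    rcases L with _ | ⟨a, L⟩
    · exfalso
      have : x = 1 := e.injective (by rw [map_one, ← hp]; rfl)
      rw [this, orderOf_one] at hx
      norm_num at hx
    · simp
  · have hsub : IsClique (stdPts.take m) := ⟨isClique_std.1.sublist (List.take_sublist _ _), fun a ha b hb =>
      isClique_std.2 a (List.mem_of_mem_take ha) b (List.mem_of_mem_take hb)⟩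
    have hlen : (stdPts.take m).length = m := by simp [stdPts]; omega
    refine ⟨e.symm ((stdPts.take m).map tp).prod, ?_, ?_⟩
    · rw [← MulEquiv.coe_toMonoidHom, orderOf_injective _ e.symm.injective]
      refine orderOf_eq_prime (by rw [pow_two]; exact clique_sq hsub) fun h => ?_
      rcases Nat.lt_or_ge m 2 with hm | hm
      · rw [show m = 1 by omega] at h
        exact tp_ne_one _ (by simpa [stdPts] using h)
      · have hm' : m = 2 ∨ m = 3 ∨ m = 4 := by omega
        rcases hm' with rfl | rfl | rfl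
        · have h' : tp (stdPts.getD 0 i₀) * tp (stdPts.getD 1 i₀) = 1 := by simpa [stdPts] using h
          have e1 : tp (stdPts.getD 0 i₀) = tp (stdPts.getD 1 i₀) := by
            rw [eq_inv_of_mul_eq_one_left h', inv_eq_of_mul_eq_one_left (tp_sq _)]
          exact absurd (cls.tp_injective e1) (by decide)
        · have := parity_prod (stdPts.take 3)
          rw [h, map_one] at this
          exact absurd this (by simp [stdPts]; decide)
        · -- the product of four is not the product of the pair of equal factors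
          have hq : fixNum ((stdPts.take 4).map tp).prod = Nat.card Pt := by
            rw [h]
            exact Nat.card_congr (Equiv.subtypeUnivEquiv fun i => by simp)
          rw [Nat.card_fin] at hq
          have := fix_four
          omega
    · have hp : ((stdPts.take m).map tp).prod = e (e.symm ((stdPts.take m).map tp).prod) :=
        (e.apply_symm_apply _).symm
      have := clique_isProd e he hsub hp
      rwa [hlen] at this
  · obtain ⟨L, hL, rfl, hp⟩ := isProd_clique e he hx
    obtain ⟨L', hL', hlen, hp'⟩ := isProd_clique e he hy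
    have := (e.symm.toMonoidHom).map_isConj (prod_conj hL hL' hlen.symm h4)
    simpa [hp, hp'] using this
  · obtain ⟨L, hL, rfl, hp⟩ := isProd_clique e he hx
    obtain ⟨L', hL', rfl, hp'⟩ := isProd_clique e he hy
    exact length_eq hL hL' h1 h4 h1' h4' (hp.trans hp'.symm)

end CfsgLib.Spor.Fi24Invol
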