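import Cfsg.Agent.Lib.Spor.Fi24Invol.Pc

/-!
The involutions of the group of order `2 ^ 22` up to conjugation, level by level of the chain, and as
products of commuting transpositions.
-/

set_option autoImplicit false

namespace CfsgLib.Spor.Fi24Invol

open CfsgLib.BitPerm CfsgLib.PresCert Cfsg.Spor
open CfsgLib.Spor.Fi24 (π sys i₀ idx gen gen_sq numGen cosetFacts okNets)

local notation "G24" => Cfsg.Spor.Fi24
local notation "Pt" => Fin 306936

theorem bitsFrom_add (t : Nat) : ∀ m k n, bitsFrom t k (m + n) = bitsFrom t k m ++ bitsFrom t (k + m) n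
  | 0, k, n => by simp [bitsFrom]
  | m + 1, k, n => by
    rw [show m + 1 + n = (m + n) + 1 by omega, bitsFrom_succ, bitsFrom_succ, bitsFrom_add t m (k + 1) n,
      show k + 1 + m = k + (m + 1) by omega]
    split <;> simp

theorem bitsFrom_zero_high {t k : Nat} (h : t < 2 ^ k) (n : Nat) : bitsFrom t k n = [] := by
  have hz : ∀ i, k ≤ i → t.testBit i = false := fun i hi =>
    Nat.testBit_lt_two_pow (lt_of_lt_of_le h (Nat.pow_le_pow_right (by norm_num) hi))
  rw [bitsFrom_congr (t' := 0) n k fun i hi _ => by rw [hz i hi, Nat.zero_testBit]]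
  have := bitsFrom_low (t := 0) 0 k n fun i _ _ => Nat.zero_testBit i
  rw [Nat.add_zero] at this
  rw [this]
  rfl

theorem bitsW_add {r i : Nat} (hi : i < 22) (hr : r < 2 ^ i) : bitsW (r + 2 ^ i) = bitsW r ++ [i] := by
  have hbit : ∀ j, (r + 2 ^ i).testBit j = (r.testBit j || decide (i = j)) := fun j => by
    rw [add_comm, ← one_mul (2 ^ i), mul_comm, Nat.two_pow_add_eq_or_of_lt hr, Nat.testBit_or]
    rw [mul_one, Nat.testBit_two_pow, Bool.or_comm]
  have e1 : bitsW (r + 2 ^ i) = bitsFrom (r + 2 ^ i) 0 i ++ bitsFrom (r + 2 ^ i) i (22 - i) := by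
    rw [bitsW, show (22 : Nat) = i + (22 - i) by omega, bitsFrom_add, Nat.zero_add, ← show (22 : Nat) = i + (22 - i) by omega]
  have e2 : bitsW r = bitsFrom r 0 i := by
    rw [bitsW, show (22 : Nat) = i + (22 - i) by omega, bitsFrom_add, Nat.zero_add, bitsFrom_zero_high hr,
      List.append_nil]
  rw [e1, e2, bitsFrom_congr (t' := r) i 0 fun j _ hj => by
    rw [hbit]; simp; omega]
  congr 1
  rw [show 22 - i = (21 - i) + 1 by omega, bitsFrom_succ, if_pos (by rw [hbit]; simp)]
  rw [bitsFrom_congr (t' := 0) (21 - i) (i + 1) fun j hj _ => by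
    rw [hbit, Nat.zero_testBit, Nat.testBit_lt_two_pow (lt_of_lt_of_le hr (Nat.pow_le_pow_right (by norm_num)
      (by omega)))]
    simp; omega]
  rw [bitsFrom_zero_high (t := 0) (Nat.two_pow_pos _)]

/-- a certificate for one candidate: dead with its square, or conjugate into a representative -/
inductive Cert where
  | dead (b : Nat)
  | conj (a w t : Nat)

/-- check of one candidate -/
noncomputable def PcData.okCand (d : PcData) (R' : List Nat) (i c : Nat) : Cert → Bool
  | .dead b => (Nat.blt b (Nat.pow 2 22) && !(Nat.beq (Nat.land b (Nat.sub (Nat.pow 2 (Nat.add i 1)) 1)) 0)) &&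
      d.eqQ (bitsW c ++ bitsW c) (bitsW b)
  | .conj a w t => (R'.any (fun x => Nat.beq x a) && lowZero t (Nat.add i 1)) &&
      d.eqQ (bitsW c ++ bitsW w) (bitsW w ++ (bitsW a ++ bitsW t))

/-- check of the candidates of one level: two for each representative -/
noncomputable def PcData.okLevel (d : PcData) (i : Nat) (R' : List Nat) : List Nat → List (Cert × Cert) → Bool
  | [], _ => true
  | _ :: _, [] => false
  | r :: R, c :: C => ((Nat.blt r (Nat.pow 2 i) && d.okCand R' i r c.1) &&
      d.okCand R' i (Nat.add r (Nat.pow 2 i)) c.2) && d.okLevel i R' R C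

theorem PcData.okLevel_spec (d : PcData) (i : Nat) (R' : List Nat) : ∀ (R : List Nat) (C : List (Cert × Cert)),
    d.okLevel i R' R C = true → ∀ r ∈ R, r < 2 ^ i ∧ (∃ C₁, d.okCand R' i r C₁ = true) ∧
      ∃ C₂, d.okCand R' i (r + 2 ^ i) C₂ = true
  | [], _, _, r, hr => by simp at hr
  | _ :: _, [], h, _, _ => by simp [PcData.okLevel] at h
  | r₀ :: R, c :: C, h, r, hr => by
    simp only [PcData.okLevel, Bool.and_eq_true, Nat.blt_eq] at h
    rcases List.mem_cons.1 hr with rfl | hr
    · exact ⟨h.1.1.1, ⟨_, h.1.1.2⟩, ⟨_, h.1.2⟩⟩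
    · exact PcData.okLevel_spec d i R' R C h.2 r hr

variable {d : PcData} {el : Nat → G24}

/-- conjugate into a coset of a representative -/
def Reached (el : Nat → G24) (R : List Nat) (i : Nat) (x : G24) : Prop :=
  ∃ g : G24, ∃ r ∈ R, ∃ h ∈ term el i, g * x * g⁻¹ = ev el (bitsW r) * h

theorem PcData.Good.cand (G : d.Good el) {R' : List Nat} {i c : Nat} {C : Cert}
    (hC : d.okCand R' i c C = true) {x : G24} (hx : x * x = 1) {g h : G24} (hh : h ∈ term el (i + 1))
    (e : g * x * g⁻¹ = ev el (bitsW c) * h) : Reached el R' (i + 1) x := by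
  have hmem : ∀ t, ev el (bitsW t) ∈ term el 0 := fun t =>
    ev_bits_mem el fun j hj => absurd hj (Nat.not_lt_zero j)
  have hlt : ∀ t, ∀ g ∈ bitsW t, g < 22 := PcData.Good.bits_lt
  have hlt2 : ∀ a b, ∀ g ∈ bitsW a ++ bitsW b, g < 22 := fun a b g hg => by
    rcases List.mem_append.1 hg with hg | hg <;> exact hlt _ g hg
  cases C with
  | dead b =>
    exfalso
    simp only [PcData.okCand, Bool.and_eq_true, Nat.blt_eq, Bool.not_eq_true', ← Bool.not_eq_true,
      Nat.beq_eq] at hC
    obtain ⟨⟨hb, hlow⟩, he⟩ := hC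
    have e2 := G.eq_of_eqQ he (hlt2 c c) (hlt b)
    rw [ev_append] at e2
    have hy : ev el (bitsW c) * h * (ev el (bitsW c) * h) = 1 := by
      rw [← e, show g * x * g⁻¹ * (g * x * g⁻¹) = g * (x * x) * g⁻¹ by group, hx]; group
    have hK : ev el (bitsW b) ∈ term el (i + 1) := by
      rw [← e2]
      have h1 := G.normal (hmem c) h hh
      have : ev el (bitsW c) * ev el (bitsW c) =
          (ev el (bitsW c) * h * (ev el (bitsW c))⁻¹ *
            (ev el (bitsW c) * (ev el (bitsW c) * h * (ev el (bitsW c))⁻¹) * (ev el (bitsW c))⁻¹))⁻¹ := by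
        rw [eq_inv_iff_mul_eq_one]
        refine Eq.trans ?_ (show ev el (bitsW c) * ev el (bitsW c) *
          (ev el (bitsW c) * h * (ev el (bitsW c) * h)) * (ev el (bitsW c) * ev el (bitsW c))⁻¹ = 1 by
            rw [hy]; group)
        group
      rw [this]
      exact inv_mem (mul_mem h1 (G.normal (hmem c) _ h1))
    rcases Nat.lt_or_ge 22 (i + 1) with hi | hi
    · rw [term_last el (k := i + 1) (by omega), Subgroup.mem_bot] at hK
      have := G.nf_inj (t' := 0) hb (Nat.two_pow_pos _) (hK.trans (by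
        rw [bitsW, bitsFrom_zero_high (t := 0) (Nat.two_pow_pos _)]; rfl))
      subst this
      exact hlow (Nat.zero_and _)
    · obtain ⟨t, ht, hlo, et⟩ := G.exists_nf (22 - (i + 1)) (i + 1) (by omega) _ hK
      have := G.nf_inj ht hb et
      subst this
      refine hlow (Nat.eq_of_testBit_eq fun j => ?_)
      rw [Nat.zero_testBit]
      change (t &&& (2 ^ (i + 1) - 1)).testBit j = false
      rw [Nat.testBit_and, Nat.testBit_two_pow_sub_one]
      by_cases hj : j < i + 1
      · simp [hlo j hj]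
      · simp [hj]
  | conj a w t =>
    simp only [PcData.okCand, Bool.and_eq_true, List.any_eq_true, Nat.beq_eq] at hC
    obtain ⟨⟨⟨a', ha, rfl⟩, ht⟩, he⟩ := hC
    have e2 := G.eq_of_eqQ he (hlt2 c w) (by
      intro z hz
      rcases List.mem_append.1 hz with hz | hz
      · exact hlt _ z hz
      · exact hlt2 _ _ z hz)
    rw [ev_append, ev_append, ev_append] at e2
    set W := ev el (bitsW w)
    refine ⟨W⁻¹ * g, a', ha, ev el (bitsW t) * (W⁻¹ * h * W),
      mul_mem (ev_bits_mem el (lowZero_iff ht).1) (by simpa using G.normal (inv_mem (hmem w)) h hh), ?_⟩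
    calc W⁻¹ * g * x * (W⁻¹ * g)⁻¹ = W⁻¹ * (g * x * g⁻¹) * W := by group
      _ = W⁻¹ * (ev el (bitsW c) * W) * (W⁻¹ * h * W) := by rw [e]; group
      _ = ev el (bitsW a') * (ev el (bitsW t) * (W⁻¹ * h * W)) := by rw [e2]; group

theorem PcData.Good.step (G : d.Good el) {R R' : List Nat} {C : List (Cert × Cert)} {i : Nat} (hi : i < 22)
    (h : d.okLevel i R' R C = true) {x : G24} (hx : x * x = 1) (hr : Reached el R i x) :
    Reached el R' (i + 1) x := by
  obtain ⟨g, r, hr, y, hy, e⟩ := hr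
  obtain ⟨hlt, ⟨C₁, h1⟩, C₂, h2⟩ := PcData.okLevel_spec d i R' R C h r hr
  rcases G.split hi hy with hy | ⟨z, hz, rfl⟩
  · exact G.cand h1 hx hy e
  · refine G.cand h2 hx hz (e.trans ?_)
    rw [bitsW_add hi hlt, ev_append, ev_single, mul_assoc]

theorem PcData.Good.start (G : d.Good el) {x : G24} (hx : x * x = 1) : Reached el [0] 0 x := by
  obtain ⟨g, hg⟩ := G.exists_conj_mem hx
  refine ⟨g, 0, List.mem_cons_self .., _, hg, ?_⟩
  rw [bitsW, bitsFrom_zero_high (t := 0) (Nat.two_pow_pos _), ev, List.map_nil, List.prod_nil, one_mul]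

end CfsgLib.Spor.Fi24Invol
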