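import Cfsg.Agent.Lib.Spor.Fi24Invol.Pairs

/-!
Derivation of the transpositions of the letters from the separating points (generated data).
-/

set_option maxRecDepth 100000

namespace CfsgLib.Spor.Fi24Invol

/-- the steps -/
def deriveData : List (List Nat × Nat × Nat) := [([1, 0, 2, 1, 3, 4, 5, 6, 7, 8, 10, 5, 4, 3, 6, 5, 10, 11, 10, 5, 4, 6, 5, 10], 29764, 20012),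
  ([1, 0, 2, 1, 3, 2, 4, 3, 5, 6, 10, 5, 11], 20012, 4139),
  ([1, 2, 3, 4, 5, 6, 7, 8, 9, 10, 5, 4, 3, 6, 7, 11, 10, 5, 4, 3, 2, 1, 6, 5, 7, 10], 4139, 292748),
  ([1, 0, 2, 1, 3, 4, 5, 6, 7, 8, 9, 10, 5, 4, 3, 6, 7, 11, 10, 5, 4, 6, 5, 10, 11], 292748, 161161),
  ([1, 0, 2, 1, 3, 4, 5, 6, 7, 8, 9, 10, 5, 4, 3, 6, 5, 7, 8, 11, 10, 5, 4, 3, 2, 6, 5, 7, 6, 8, 9, 10, 5, 4, 3, 11, 10], 161161, 122845),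
  ([1, 0, 2, 1, 3, 4, 5, 6, 7, 10, 5, 4, 3, 6, 5, 4, 11, 10, 5, 4, 6, 5, 7], 122845, 102262),
  ([1, 2, 3, 4, 5, 6, 7, 8, 9, 10, 5, 4, 3, 6, 7, 11, 10, 5, 4, 3, 2, 1, 6, 5, 7, 10], 102262, 31673),
  ([1, 2, 3, 4, 5, 6, 7, 8, 9, 10, 5, 4, 3, 2, 1, 6, 7, 11, 10, 5, 4, 3, 6, 7], 108609, 221640),
  ([1, 2, 3, 4, 5, 6, 7, 8, 9, 10, 5, 4, 3, 6, 7, 11, 10, 5, 4, 3, 2, 1, 6, 5, 7, 10], 221640, 283862),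
  ([1, 0, 2, 1, 3, 4, 5, 6, 7, 8, 10, 5, 4, 3, 6, 5, 10, 11, 10, 5, 4, 6, 5, 10], 283862, 160607),
  ([1, 0, 2, 1, 3, 2, 4, 3, 5, 6, 7, 8, 9, 10, 5, 6, 11, 10], 160607, 84101),
  ([1, 2, 3, 4, 5, 6, 7, 8, 9, 10, 5, 4, 3, 6, 7, 11, 10, 5, 4, 3, 2, 1, 6, 5, 7, 10], 84101, 13045),
  ([1, 0, 2, 1, 3, 4, 5, 6, 7, 8, 9, 10, 5, 4, 3, 6, 5, 7, 8, 11, 10, 5, 4, 3, 2, 6, 5, 7, 6, 8, 9, 10, 5, 4, 3, 11, 10], 13045, 3),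
  ([1, 0, 2, 1, 3, 4, 5, 6, 7, 8, 10, 5, 4, 3, 6, 5, 10, 11, 10, 5, 4, 6, 5, 10], 298501, 42382),
  ([1, 2, 3, 4, 5, 6, 7, 8, 9, 10, 5, 4, 3, 6, 7, 11, 10, 5, 4, 3, 2, 1, 6, 5, 7, 10], 42382, 219801),
  ([1, 0, 2, 1, 3, 2, 4, 3, 5, 6, 10, 5, 11], 219801, 265495),
  ([1, 0, 2, 1, 3, 2, 4, 3, 5, 6, 7, 10, 5, 6, 11], 265495, 204890),
  ([1, 0, 2, 1, 3, 4, 5, 6, 7, 8, 10, 5, 4, 3, 6, 5, 10, 11, 10, 5, 4, 6, 5, 10], 204890, 194012),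
  ([1, 2, 3, 4, 5, 6, 7, 8, 9, 10, 5, 4, 3, 6, 7, 11, 10, 5, 4, 3, 2, 1, 6, 5, 7, 10], 194012, 142),
  ([1, 2, 3, 4, 5, 6, 7, 8, 9, 10, 5, 4, 3, 2, 1, 6, 7, 11, 10, 5, 4, 3, 6, 7], 5146, 23544),
  ([1, 0, 2, 1], 23544, 11061),
  ([1, 0, 2, 1, 3, 2, 4, 3, 5, 6, 10, 5, 11], 11061, 177),
  ([1, 0, 2, 1, 3, 4, 5, 6, 7, 8, 9, 10, 5, 4, 3, 6, 5, 7, 8, 11, 10, 5, 4, 3, 2, 6, 5, 7, 6, 8, 9, 10, 5, 4, 3, 11, 10], 177, 266),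
  ([1, 2, 3, 4, 5, 6, 7, 8, 9, 10, 5, 4, 3, 2, 1, 6, 7, 11, 10, 5, 4, 3, 6, 7], 4139, 29877),
  ([1, 0, 2, 1, 3, 4, 5, 6, 7, 8, 9, 10, 5, 4, 3, 6, 7, 11, 10, 5, 4, 6, 5, 10, 11], 29877, 400),
  ([1, 0, 2, 1, 3, 4, 5, 6, 7, 8, 10, 5, 4, 3, 6, 5, 10, 11, 10, 5, 4, 6, 5, 10], 400, 268),
  ([1, 2, 3, 4, 5, 6, 7, 8, 9, 10, 5, 4, 3, 2, 1, 6, 7, 11, 10, 5, 4, 3, 6, 7], 5541, 27317),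
  ([1, 0, 2, 1, 3, 2, 4, 3, 5, 6, 7, 10, 5, 11, 10], 27317, 27699),
  ([1, 0, 2, 1, 3, 2, 4, 3, 5, 6, 10, 5, 11], 27699, 6827),
  ([1, 2, 3, 4, 5, 6, 7, 8, 9, 10, 5, 4, 3, 2, 1, 6, 7, 11, 10, 5, 4, 3, 6, 7], 6827, 367),
  ([1, 0, 2, 1, 3, 4, 5, 6, 7, 8, 10, 5, 4, 3, 6, 5, 10, 11, 10, 5, 4, 6, 5, 10], 5063, 435),
  ([1, 2, 3, 4, 5, 6, 7, 8, 9, 10, 5, 4, 3, 2, 1, 6, 7, 11, 10, 5, 4, 3, 6, 7], 1729, 23088),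
  ([1, 0, 2, 1, 3, 4, 5, 6, 7, 8, 10, 5, 4, 3, 6, 5, 10, 11, 10, 5, 4, 6, 5, 10], 23088, 875),
  ([1, 0, 2, 1, 3, 4, 5, 6, 7, 8, 9, 10, 5, 4, 3, 6, 7, 11, 10, 5, 4, 6, 5, 7, 6, 10], 875, 13054),
  ([1, 0, 2, 1, 3, 4, 5, 6, 7, 8, 9, 10, 5, 4, 3, 6, 5, 7, 8, 11, 10, 5, 4, 3, 2, 6, 5, 7, 6, 8, 9, 10, 5, 4, 3, 11, 10], 13054, 157)]

/-- the points of the letters -/
def letterPts : List Nat := [0, 31673, 1, 3, 5, 142, 266, 268, 367, 435, 157, 799]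

end CfsgLib.Spor.Fi24Invol
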