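import Cfsg.Agent.Lib.Spor.Fi24Invol.Witness
import Cfsg.Agent.Lib.Spor.Fi24Invol.ChkPc
import Cfsg.Agent.Lib.Spor.Fi24Invol.ChkPts
import Cfsg.Agent.Lib.Spor.Fi24Invol.ChkTab0
import Cfsg.Agent.Lib.Spor.Fi24Invol.ChkTab1
import Cfsg.Agent.Lib.Spor.Fi24Invol.ChkTab2
import Cfsg.Agent.Lib.Spor.Fi24Invol.ChkTab3

/-!
The 22 elements of Fi24 and the facts about their data.
-/

set_option autoImplicit false
set_option maxRecDepth 100000
set_option maxHeartbeats 0

namespace CfsgLib.Spor.Fi24Invol

open CfsgLib.BitPerm CfsgLib.PresCert Cfsg.Spor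
open CfsgLib.Spor.Fi24 (π sys i₀ idx gen gen_sq numGen cosetFacts okNets)

local notation "G24" => Cfsg.Spor.Fi24
local notation "Pt" => Fin 306936

theorem basTab_all : ∀ k < 34, okTab sData (basT.getD k 0) (basW.getD k []) = true := by
  intro k hk
  interval_cases k
  exacts [basTab0, basTab1, basTab2, basTab3, basTab4, basTab5, basTab6, basTab7, basTab8, basTab9, basTab10,
    basTab11, basTab12, basTab13, basTab14, basTab15, basTab16, basTab17, basTab18, basTab19, basTab20,
    basTab21, basTab22, basTab23, basTab24, basTab25, basTab26, basTab27, basTab28, basTab29, basTab30,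
    basTab31, basTab32, basTab33]

theorem getD_all {α : Type*} {p : α → Bool} {l : List α} (h : l.all p = true) {d : α} (hd : p d = true)
    (k : Nat) : p (l.getD k d) = true := by
  by_cases hk : k < l.length
  · rw [List.getD_eq_getElem?_getD, List.getElem?_eq_getElem hk]
    exact List.all_eq_true.1 h _ (List.getElem_mem hk)
  · rwa [List.getD_eq_getElem?_getD, List.getElem?_eq_none (not_lt.1 hk)]

/-- the basic elements -/
noncomputable def bas (k : Nat) : G24 := wEl (basW.getD k [])

/-- the 22 elements -/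
noncomputable def el (k : Nat) : G24 := ((eW.getD k []).map bas).prod

theorem bas_tab {k : Nat} (hk : k < 34) : TabOf sData (bas k) (basT.getD k 0) :=
  tabOf_of_okTab pts_ok (getD_all basW_ok rfl k) (basTab_all k hk)

theorem el_tab {k : Nat} (hk : k < 22) : TabOf sData (el k) (eT.getD k 0) := by
  intro i hi
  have hg : ∀ g ∈ eW.getD k [], g < 34 := by
    have := getD_all eW_ok (d := []) rfl k
    simpa [List.all_eq_true, Nat.blt_eq] using this
  obtain ⟨h1, h2⟩ := π_prod_tab (fun g hg => bas_tab hg) (eW.getD k []) hg i hi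
  have h := allLt_spec compose_ok k hk
  rw [force_eq] at h
  rw [Nat.eq_of_beq_eq_true (allLt_spec h i hi)]
  exact ⟨h1, h2⟩

theorem gen_top : Subgroup.closure (tp '' {q | ∃ i ∈ qList, sPt sData i = q}) = ⊤ := by
  rw [eq_top_iff, ← top_eq_lettersGroup (edges := Fi24.edges) (extra := Fi24.extra) Fi24.allGens Fi24.mem_allGens,
    lettersGroup, Subgroup.closure_le]
  rintro _ ⟨x, -, rfl⟩
  show gen x ∈ _
  rw [← FischerTypes.gen_tp cosetFacts x]
  refine okDerive_spec deriveData _ letterPts derive_ok _ (fun k hk q hq => ?_) _ ?_ _ rfl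
  · obtain ⟨i, hi, rfl⟩ := List.mem_map.1 hk
    have hlt : i < 504 := by simpa [List.all_eq_true, Nat.blt_eq] using List.all_eq_true.1 qlt_ok i hi
    exact Subgroup.subset_closure ⟨q, ⟨i, hi, Fin.ext (by rw [sPt_val pts_ok hlt, hq])⟩, rfl⟩
  · cases x <;> decide

theorem good : pcData.Good el where
  pts := pts_ok
  tab _ := el_tab
  qlt := by simpa [pcData, List.all_eq_true, Nat.blt_eq] using qlt_ok
  gen := gen_top
  conj := allLt_spec conj_ok
  sq := sq_ok
  chain := chain_ok
  size := size_ok.ge

end CfsgLib.Spor.Fi24Invol
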