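import Cfsg.Agent.Lib.Spor.Fi24Invol.Elements
import Cfsg.Agent.Lib.Spor.Fi24Invol.ChkLevels
import Cfsg.Agent.Lib.Spor.Fi24Invol.ChkWit
import Cfsg.Agent.Lib.Spor.Fi24Invol.ChkPairs0
import Cfsg.Agent.Lib.Spor.Fi24Invol.ChkPairs1
import Cfsg.Agent.Lib.Spor.Fi24Invol.ChkPairs2
import Cfsg.Agent.Lib.Spor.Fi24Invol.ChkPairs3
import Cfsg.Agent.Lib.Spor.Fi24Invol.ChkPairs4
import Cfsg.Agent.Lib.Spor.Fi24Invol.ChkPairs5

/-!
Every involution of Fi24 is a product of at most four pairwise commuting transpositions.
-/

set_option autoImplicit false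
set_option maxRecDepth 100000
set_option maxHeartbeats 0

namespace CfsgLib.Spor.Fi24Invol

open CfsgLib.BitPerm CfsgLib.PresCert Cfsg.Spor
open CfsgLib.Spor.Fi24 (π sys i₀ idx gen gen_sq numGen cosetFacts okNets)

local notation "G24" => Cfsg.Spor.Fi24
local notation "Pt" => Fin 306936

theorem reached {x : G24} (hx : x * x = 1) : Reached el (repData.getD 22 []) 22 x := by
  have s0 : Reached el (repData.getD 0 []) 0 x := rep_start ▸ good.start hx
  have s1 := good.step (by norm_num) level0_ok hx s0
  have s2 := good.step (by norm_num) level1_ok hx s1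
  have s3 := good.step (by norm_num) level2_ok hx s2
  have s4 := good.step (by norm_num) level3_ok hx s3
  have s5 := good.step (by norm_num) level4_ok hx s4
  have s6 := good.step (by norm_num) level5_ok hx s5
  have s7 := good.step (by norm_num) level6_ok hx s6
  have s8 := good.step (by norm_num) level7_ok hx s7
  have s9 := good.step (by norm_num) level8_ok hx s8
  have s10 := good.step (by norm_num) level9_ok hx s9
  have s11 := good.step (by norm_num) level10_ok hx s10
  have s12 := good.step (by norm_num) level11_ok hx s11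
  have s13 := good.step (by norm_num) level12_ok hx s12
  have s14 := good.step (by norm_num) level13_ok hx s13
  have s15 := good.step (by norm_num) level14_ok hx s14
  have s16 := good.step (by norm_num) level15_ok hx s15
  have s17 := good.step (by norm_num) level16_ok hx s16
  have s18 := good.step (by norm_num) level17_ok hx s17
  have s19 := good.step (by norm_num) level18_ok hx s18
  have s20 := good.step (by norm_num) level19_ok hx s19
  have s21 := good.step (by norm_num) level20_ok hx s20
  exact good.step (by norm_num) level21_ok hx s21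

theorem qWords_pairs : ∀ k < qWords.length,
    okLetters (qWords.getD k []) = true ∧ okPairs (qWords.getD k []) (qPairs.getD k []) = true := by
  intro k hk
  refine ⟨getD_all qWords_ok rfl k, ?_⟩
  have hlen : qWords.length = 122 := by decide +kernel
  rw [hlen] at hk
  by_cases h0 : k < 21
  · exact pairs0_ok k (Nat.zero_le k) h0
  by_cases h1 : k < 41
  · exact pairs1_ok k (not_lt.1 h0) h1
  by_cases h2 : k < 61
  · exact pairs2_ok k (not_lt.1 h1) h2
  by_cases h3 : k < 82
  · exact pairs3_ok k (not_lt.1 h2) h3
  by_cases h4 : k < 102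
  · exact pairs4_ok k (not_lt.1 h3) h4
  exact pairs5_ok k (not_lt.1 h4) hk

/-- Every involution is a product of at most four commuting transpositions. -/
theorem invol_clique {x : G24} (hx : x * x = 1) :
    ∃ L : List Pt, IsClique L ∧ L.length ≤ 4 ∧ (L.map tp).prod = x := by
  obtain ⟨g, r, hr, h, hh, e⟩ := reached hx
  rw [term_last el (le_refl 22), Subgroup.mem_bot] at hh
  rw [hh, mul_one] at e
  obtain ⟨k, hk, rfl⟩ := List.getElem_of_mem hr
  have hw := List.all_eq_true.1 wit_ok k (List.mem_range.2 hk)
  simp only [Bool.and_eq_true, Nat.ble_eq] at hw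
  rw [List.getD_eq_getElem (repData.getD 22 []) 0 hk] at hw
  obtain ⟨L, hL, hlen, hp⟩ := good.witness qWords_pairs hw.1
  refine ⟨L.map (π g⁻¹), hL.map _, by rw [List.length_map, hlen]; exact hw.2, ?_⟩
  rw [← conj_prod, hp, inv_inv, ← e]
  group

end CfsgLib.Spor.Fi24Invol
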