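import Cfsg.Agent.Lib.Spor.Fi24Invol.Cliques
import Cfsg.Agent.Lib.Spor.Fi24Invol.ChkCliques

/-!
Conjugacy of products of commuting transpositions of Fi24, and the number of factors.
-/

set_option autoImplicit false
set_option maxRecDepth 100000

namespace CfsgLib.Spor.Fi24Invol

open CfsgLib.BitPerm CfsgLib.PresCert Cfsg.Spor
open CfsgLib.Spor.Fi24 (π sys i₀ idx gen gen_sq numGen cosetFacts okNets)

local notation "G24" => Cfsg.Spor.Fi24
local notation "Pt" => Fin 306936

/-- the standard clique -/
def stdPts : List Pt :=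
  [⟨0, by norm_num⟩, ⟨1, by norm_num⟩, ⟨5, by norm_num⟩, ⟨13, by norm_num⟩]

theorem stdWord_ok (k : Nat) : okLetters (stdWords.getD k []) = true := by
  by_cases hk : k < stdWords.length
  · rw [List.getD_eq_getElem _ _ hk]
    exact List.all_eq_true.1 std_letters _ (List.getElem_mem hk)
  · rw [List.getD_eq_default _ _ (not_lt.1 hk)]; rfl

theorem stdPts_getD {k : Nat} (hk : k < 4) :
    sys.ptW (stdWords.getD k []) 0 = ((stdPts.getD k i₀ : Pt) : ℕ) := by
  have e := congrArg (fun l => List.getD l k 0) std_ends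
  have hlen : stdWords.length = 4 := by
    have := congrArg List.length std_ends
    simpa using this
  simp only [List.getD_eq_getElem?_getD, List.getElem?_map, List.getElem?_eq_getElem (hlen.symm ▸ hk),
    Option.map_some, Option.getD_some] at e
  rw [List.getD_eq_getElem _ _ (hlen.symm ▸ hk), e]
  interval_cases k <;> rfl

theorem wEl_stdT {k : Nat} (hk : k < 4) : wEl (stdT k) = tp (stdPts.getD k i₀) :=
  wEl_tW (stdWord_ok k) (stdPts_getD hk)

theorem okLetters_stdT (k : Nat) : okLetters (stdT k) = true := okLetters_tW (stdWord_ok k)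

theorem okLetters_append {u w : List Nat} (hu : okLetters u = true) (hw : okLetters w = true) :
    okLetters (u ++ w) = true := by
  rw [okLetters_iff] at *
  exact fun n hn => (List.mem_append.1 hn).elim (hu n) (hw n)

theorem fix_std {k : Nat} (hk : k < 4) (q : Pt) :
    (fixM (stdT k)).testBit q = true ↔ π (tp (stdPts.getD k i₀)) q = q := by
  rw [testBit_fixM (okLetters_stdT k), wEl_stdT hk]

theorem isClique_std : IsClique stdPts := by
  refine ⟨by decide, fun a ha b hb => ?_⟩
  obtain ⟨i, hi, rfl⟩ := List.getElem_of_mem ha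
  obtain ⟨j, hj, rfl⟩ := List.getElem_of_mem hb
  have hi' : i < 4 := hi
  have hj' : j < 4 := hj
  rw [← List.getD_eq_getElem stdPts i₀ hi, ← List.getD_eq_getElem stdPts i₀ hj, ← wEl_stdT hi']
  refine Fin.ext ?_
  rw [π_wEl (okLetters_stdT i)]
  have e := List.all_eq_true.1 (List.all_eq_true.1 std_clique i (List.mem_range.2 hi')) j (List.mem_range.2 hj')
  have e' : [0, 1, 5, 13].getD j 0 = ((stdPts.getD j i₀ : Pt) : ℕ) := by interval_cases j <;> rfl
  rw [e'] at e
  exact Nat.eq_of_beq_eq_true e

theorem comm_mask {a q : Pt} {g : G24} {k : Nat} (hk : k < 4) (ha : π g a = stdPts.getD k i₀)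
    (hq : π (tp a) q = q) : (fixM (stdT k)).testBit ((π g q : Pt) : ℕ) = true := by
  rw [fix_std hk, ← ha, ← conj_tp, map_mul, map_mul, map_inv, Equiv.Perm.mul_apply, Equiv.Perm.mul_apply,
    Equiv.Perm.inv_def, Equiv.symm_apply_apply, hq]

theorem testBit_land3 {a b : Nat} {i : Nat} (ha : a.testBit i = true) (hb : b.testBit i = true) :
    (Nat.land a b).testBit i = true := by
  change (a &&& b).testBit i = true
  rw [Nat.testBit_and, ha, hb]; rfl

/-- a clique of four extends nothing: cliques of at most four map onto the standard one -/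
theorem normal_form : ∀ L : List Pt, IsClique L → L.length ≤ 4 →
    ∃ g : G24, L.map (π g) = stdPts.take L.length
  | [], _, _ => ⟨1, rfl⟩
  | [a], _, _ => by
    obtain ⟨h, hh⟩ := Fi24.transitive a
    refine ⟨h⁻¹, ?_⟩
    have e : π h⁻¹ a = i₀ := by rw [map_inv, Equiv.Perm.inv_def, Equiv.symm_apply_eq, hh]
    simp only [List.map_cons, List.map_nil, e]
    rfl
  | [a, b], hL, _ => by
    obtain ⟨g, hg⟩ := two hL.1 (hL.2 a (by simp) b (by simp))
    exact ⟨g, by simp [stdPts, hg.1, hg.2]⟩
  | [a, b, c], hL, _ => by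
    obtain ⟨g, h1, h2, h3⟩ := three hL
    exact ⟨g, by simp [stdPts, h1, h2, h3]⟩
  | [a, b, c, e], hL, _ => by
    obtain ⟨g, h1, h2, h3⟩ := three (a := a) (b := b) (c := c) ⟨hL.1.sublist (by simp), fun x hx y hy =>
      hL.2 x (by simp only [List.mem_cons, List.not_mem_nil, or_false] at hx ⊢; tauto) y
        (by simp only [List.mem_cons, List.not_mem_nil, or_false] at hy ⊢; tauto)⟩
    have hmask : (Nat.land (Nat.land (fixM (stdT 0)) (fixM (stdT 1))) (fixM (stdT 2))).testBit
        ((π g e : Pt) : ℕ) = true :=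
      testBit_land3 (testBit_land3 (comm_mask (by norm_num) h1 (hL.2 a (by simp) e (by simp)))
        (comm_mask (by norm_num) h2 (hL.2 b (by simp) e (by simp))))
        (comm_mask (by norm_num) h3 (hL.2 c (by simp) e (by simp)))
    have hn := hL.1
    simp only [List.nodup_cons, List.mem_cons, List.not_mem_nil, or_false, not_or] at hn
    obtain ⟨h, hh, hf⟩ := reach (p := ⟨13, by norm_num⟩) c3_reach
      (fun u hu => List.all_eq_true.1 c3_letters u hu) (fixed := stdPts.take 3)
      (fun u hu q hq => by
        have := List.all_eq_true.1 (List.all_eq_true.1 c3_fix u hu) q (by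
          simp only [stdPts, List.take_succ_cons, List.take_zero, List.mem_cons, List.not_mem_nil,
            or_false] at hq ⊢
          rcases hq with rfl | rfl | rfl <;> simp)
        exact Nat.eq_of_beq_eq_true this) hmask (by
      simp only [List.mem_cons, List.not_mem_nil, or_false, not_or]
      refine ⟨fun e' => hn.1.2.2 ?_, fun e' => hn.2.1.2 ?_, fun e' => hn.2.2.1 ?_⟩
      · exact (π g).injective (h1.trans (Fin.ext e'.symm))
      · exact (π g).injective (h2.trans (Fin.ext e'.symm))
      · exact (π g).injective (h3.trans (Fin.ext e'.symm)))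
    refine ⟨h * g, ?_⟩
    simp only [List.map_cons, List.map_nil, map_mul, Equiv.Perm.mul_apply, h1, h2, h3, hh]
    rw [hf (stdPts.getD 0 i₀) (by simp [stdPts]), hf (stdPts.getD 1 i₀) (by simp [stdPts]),
      hf (stdPts.getD 2 i₀) (by simp [stdPts])]
    rfl
  | _ :: _ :: _ :: _ :: _ :: _, _, h => by simp only [List.length_cons] at h; omega
where
  two {a b : Pt} (hn : [a, b].Nodup) (hc : π (tp a) b = b) :
      ∃ g : G24, π g a = stdPts.getD 0 i₀ ∧ π g b = stdPts.getD 1 i₀ := by
    obtain ⟨u, rfl⟩ := Fi24.transitive a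
    have hb : π (gen .l) (π u⁻¹ b) = π u⁻¹ b := by
      have e := conj_tp u⁻¹ (π u i₀)
      rw [← Equiv.Perm.mul_apply, ← map_mul, inv_mul_cancel, map_one, Equiv.Perm.one_apply,
        show tp i₀ = gen .l from cls.tp_base] at e
      rw [← e, map_mul, map_mul, map_inv, Equiv.Perm.mul_apply, Equiv.Perm.mul_apply, inv_inv,
        Equiv.Perm.inv_def, Equiv.apply_symm_apply]
      exact congrArg _ hc
    have hne : π u⁻¹ b ≠ i₀ := fun e => by
      simp only [List.nodup_cons, List.mem_cons, List.not_mem_nil, or_false] at hn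
      refine hn.1 ?_
      rw [← e, ← Equiv.Perm.mul_apply, ← map_mul, mul_inv_cancel, map_one, Equiv.Perm.one_apply]
    have hlt : ((π u⁻¹ b : Pt) : ℕ) < 31672 := by
      by_contra hge
      obtain ⟨h, hh, e⟩ := FischerTypes.orbB (i := ⟨31673, by norm_num⟩) (j := π u⁻¹ b) (by norm_num)
        (not_lt.1 hge)
      rw [← e, ← Equiv.Perm.mul_apply, ← map_mul, ← FischerTypes.H_comm h hh, map_mul,
        Equiv.Perm.mul_apply, EmbeddingLike.apply_eq_iff_eq] at hb
      have := congrArg Fin.val hb
      rw [Fi24.π_gen] at this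
      exact absurd this (by decide +kernel)
    obtain ⟨h, hh, e⟩ := FischerTypes.orbA (i := ⟨1, by norm_num⟩) (j := π u⁻¹ b) ⟨le_rfl, by norm_num⟩
      ⟨Nat.one_le_iff_ne_zero.2 fun e => hne (Fin.ext e), hlt⟩
    refine ⟨h⁻¹ * u⁻¹, ?_, ?_⟩
    · rw [map_mul, Equiv.Perm.mul_apply, ← Equiv.Perm.mul_apply (π u⁻¹), ← map_mul, inv_mul_cancel, map_one,
        Equiv.Perm.one_apply]
      exact Fi24.H_fix _ (inv_mem hh)
    · rw [map_mul, Equiv.Perm.mul_apply, ← e, map_inv, Equiv.Perm.inv_def, Equiv.symm_apply_apply]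
      rfl
  three {a b c : Pt} (hL : IsClique [a, b, c]) :
      ∃ g : G24, π g a = stdPts.getD 0 i₀ ∧ π g b = stdPts.getD 1 i₀ ∧ π g c = stdPts.getD 2 i₀ := by
    have hn := hL.1
    simp only [List.nodup_cons, List.mem_cons, List.not_mem_nil, or_false, not_or] at hn
    obtain ⟨g, h1, h2⟩ := two (a := a) (b := b) (by simp [hn.1.1]) (hL.2 a (by simp) b (by simp))
    have hmask : (Nat.land (fixM (stdT 0)) (fixM (stdT 1))).testBit ((π g c : Pt) : ℕ) = true :=
      testBit_land3 (comm_mask (by norm_num) h1 (hL.2 a (by simp) c (by simp)))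
        (comm_mask (by norm_num) h2 (hL.2 b (by simp) c (by simp)))
    obtain ⟨h, hh, hf⟩ := reach (p := ⟨5, by norm_num⟩) c2_reach
      (fun u hu => List.all_eq_true.1 c2_letters u hu) (fixed := stdPts.take 2)
      (fun u hu q hq => by
        have := List.all_eq_true.1 (List.all_eq_true.1 c2_fix u hu) q (by
          simp only [stdPts, List.take_succ_cons, List.take_zero, List.mem_cons, List.not_mem_nil,
            or_false] at hq ⊢
          rcases hq with rfl | rfl <;> simp)
        exact Nat.eq_of_beq_eq_true this) hmask (by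
      simp only [List.mem_cons, List.not_mem_nil, or_false, not_or]
      refine ⟨fun e' => hn.1.2 ?_, fun e' => hn.2.1 ?_⟩
      · exact (π g).injective (h1.trans (Fin.ext e'.symm))
      · exact (π g).injective (h2.trans (Fin.ext e'.symm)))
    exact ⟨h * g, by rw [map_mul, Equiv.Perm.mul_apply, h1]; exact hf _ (by simp [stdPts]),
      by rw [map_mul, Equiv.Perm.mul_apply, h2]; exact hf _ (by simp [stdPts]),
      by rw [map_mul, Equiv.Perm.mul_apply, hh]; rfl⟩

/-- products of cliques of the same length are conjugate to the standard one -/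
theorem conj_std {L : List Pt} (hL : IsClique L) (h : L.length ≤ 4) :
    IsConj (L.map tp).prod ((stdPts.take L.length).map tp).prod := by
  obtain ⟨g, hg⟩ := normal_form L hL h
  exact isConj_iff.2 ⟨g, by rw [conj_prod, hg]⟩

theorem prod_conj {L L' : List Pt} (hL : IsClique L) (hL' : IsClique L') (e : L.length = L'.length)
    (h : L.length ≤ 4) : IsConj (L.map tp).prod (L'.map tp).prod := by
  refine (conj_std hL h).trans ?_
  rw [e]
  exact (conj_std hL' (e ▸ h)).symm

theorem wEl_pair : wEl (stdT 1 ++ stdT 0) = ((stdPts.take 2).map tp).prod := by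
  rw [wEl_append, wEl_stdT (by norm_num), wEl_stdT (by norm_num)]; simp [stdPts]

theorem wEl_triple : wEl (stdT 2 ++ stdT 1 ++ stdT 0) = ((stdPts.take 3).map tp).prod := by
  rw [wEl_append, wEl_append, wEl_stdT (by norm_num), wEl_stdT (by norm_num), wEl_stdT (by norm_num)]
  simp [stdPts]

theorem wEl_quad : wEl (stdT 3 ++ stdT 2 ++ stdT 1 ++ stdT 0) = (stdPts.map tp).prod := by
  rw [wEl_append, wEl_append, wEl_append, wEl_stdT (by norm_num), wEl_stdT (by norm_num),
    wEl_stdT (by norm_num), wEl_stdT (by norm_num)]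
  simp [stdPts]

/-- the number of fixed points of a product separates the lengths -/
theorem length_eq {L L' : List Pt} (hL : IsClique L) (hL' : IsClique L') (h1 : 1 ≤ L.length)
    (h4 : L.length ≤ 4) (h1' : 1 ≤ L'.length) (h4' : L'.length ≤ 4)
    (e : (L.map tp).prod = (L'.map tp).prod) : L.length = L'.length := by
  have hp : Fi24.parity (L.map tp).prod = Fi24.parity (L'.map tp).prod := by rw [e]
  rw [parity_prod, parity_prod] at hp
  have f1 : 697 ≤ fixNum ((stdPts.take 1).map tp).prod := by
    have h := le_fixNum (okLetters_stdT 0) members_one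
    rw [wEl_stdT (by norm_num), List.length_range] at h
    simpa [stdPts] using h
  have f2 : 697 ≤ fixNum ((stdPts.take 2).map tp).prod := by
    have h := le_fixNum (okLetters_append (okLetters_stdT 1) (okLetters_stdT 0)) members_two
    rwa [wEl_pair, lengths_fix.1] at h
  have f3 : fixNum ((stdPts.take 3).map tp).prod ≤ 696 := by
    have h := fixNum_le (okLetters_append (okLetters_append (okLetters_stdT 2) (okLetters_stdT 1))
      (okLetters_stdT 0)) exact_three
    rwa [wEl_triple, lengths_fix.2.1] at h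
  have f4 : fixNum ((stdPts.take 4).map tp).prod ≤ 504 := by
    have h := fixNum_le (okLetters_append (okLetters_append (okLetters_append (okLetters_stdT 3)
      (okLetters_stdT 2)) (okLetters_stdT 1)) (okLetters_stdT 0)) exact_four
    rwa [wEl_quad, lengths_fix.2.2] at h
  have k1 := fixNum_conj (conj_std hL h4)
  have k2 := fixNum_conj (conj_std hL' h4')
  rw [e, k2] at k1
  generalize L.length = m at *
  generalize L'.length = m' at *
  interval_cases m <;> interval_cases m' <;> first
    | rfl
    | (exfalso; exact absurd hp (by decide))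
    | (exfalso; omega)

end CfsgLib.Spor.Fi24Invol
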