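import Cfsg.Agent.Lib.Spor.Fi24Invol.Tables

/-!
A group of order `2 ^ 22` from 22 elements with tables on 504 points, relations forming a polycyclic chain
with normal terms, and orbit lengths for a lower bound.
-/

set_option autoImplicit false

namespace CfsgLib.Spor.Fi24Invol

open CfsgLib.BitPerm CfsgLib.PresCert Cfsg.Spor
open scoped Pointwise
open CfsgLib.Spor.Fi24 (π sys i₀ idx gen gen_sq numGen cosetFacts okNets)

local notation "G24" => Cfsg.Spor.Fi24
local notation "Pt" => Fin 306936

/-- the numbers of the bits of `t` in `[k, k + n)` -/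
noncomputable def bitsFrom (t : Nat) : Nat → Nat → List Nat := fun k n =>
  Nat.rec (motive := fun _ => Nat → List Nat) (fun _ => [])
    (fun _ r k => Bool.rec (motive := fun _ => List Nat) (r (k + 1)) (k :: r (k + 1)) (Nat.beq (Nat.land (Nat.shiftRight t k) 1) 1)) n k

/-- the numbers of the bits below 22 -/
noncomputable def bitsW (t : Nat) : List Nat := bitsFrom t 0 22

theorem bitsFrom_succ (t k n : Nat) :
    bitsFrom t k (n + 1) = if t.testBit k then k :: bitsFrom t (k + 1) n else bitsFrom t (k + 1) n := by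
  have e : Nat.beq (Nat.land (Nat.shiftRight t k) 1) 1 = t.testBit k := by
    change Nat.beq (t >>> k &&& 1) 1 = t.testBit k
    rw [Nat.and_one_is_mod, Bool.eq_iff_iff, Nat.beq_eq, Nat.testBit, Nat.one_and_eq_mod_two]
    rcases Nat.mod_two_eq_zero_or_one (t >>> k) with h | h <;> simp [h]
  change Bool.rec (motive := fun _ => List Nat) _ _ (Nat.beq (Nat.land (Nat.shiftRight t k) 1) 1) = _
  rw [e]
  cases t.testBit k <;> rfl

theorem mem_bitsFrom (t : Nat) : ∀ n k i, i ∈ bitsFrom t k n → k ≤ i ∧ i < k + n ∧ t.testBit i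
  | 0, _, _, h => by simp [bitsFrom] at h
  | n + 1, k, i, h => by
    rw [bitsFrom_succ] at h
    split at h
    · rcases List.mem_cons.1 h with rfl | h
      · exact ⟨le_rfl, by omega, by assumption⟩
      · obtain ⟨a, b, c⟩ := mem_bitsFrom t n (k + 1) i h
        exact ⟨by omega, by omega, c⟩
    · obtain ⟨a, b, c⟩ := mem_bitsFrom t n (k + 1) i h
      exact ⟨by omega, by omega, c⟩

theorem bitsFrom_congr {t t' : Nat} : ∀ n k, (∀ i, k ≤ i → i < k + n → t.testBit i = t'.testBit i) →
    bitsFrom t k n = bitsFrom t' k n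
  | 0, _, _ => rfl
  | n + 1, k, h => by
    rw [bitsFrom_succ, bitsFrom_succ, h k le_rfl (by omega),
      bitsFrom_congr n (k + 1) fun i hi hi' => h i (by omega) (by omega)]

theorem bitsFrom_low {t : Nat} : ∀ n k m, (∀ i, k ≤ i → i < k + m → t.testBit i = false) →
    bitsFrom t k (m + n) = bitsFrom t (k + m) n
  | n, k, 0, _ => by simp
  | n, k, m + 1, h => by
    rw [show m + 1 + n = (m + n) + 1 by omega, bitsFrom_succ, h k le_rfl (by omega), if_neg (by simp),
      bitsFrom_low n (k + 1) m fun i hi hi' => h i (by omega) (by omega), show k + 1 + m = k + (m + 1) by omega]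

/-- the data -/
structure PcData where
  S : Nat
  Ts : List Nat
  Qi : List Nat
  conjC : List Nat
  sqC : List Nat
  chain : List (Nat × List Nat)

variable (d : PcData)

/-- equal tables of two words on the separating points -/
noncomputable def PcData.eqQ (gs gs' : List Nat) : Bool :=
  d.Qi.all fun i => Nat.beq (appT d.Ts gs i) (appT d.Ts gs' i)

/-- the low bits of a number vanish -/
noncomputable def lowZero (t k : Nat) : Bool :=
  Nat.beq (Nat.land t (Nat.sub (Nat.pow 2 k) 1)) 0 && Nat.blt t (Nat.pow 2 22)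

/-- the conjugation relations of one element -/
noncomputable def PcData.okConj (j : Nat) : Bool :=
  allLt 22 fun k => force (d.conjC.getD (22 * j + k) 0) fun t =>
    lowZero t k && d.eqQ [j, k] (bitsW t ++ [j])

/-- the squares -/
noncomputable def PcData.okSq : Bool :=
  allLt 22 fun k => force (d.sqC.getD k 0) fun t => lowZero t (k + 1) && d.eqQ [k, k] (bitsW t)

/-- the orbits -/
noncomputable def okChain (Ts : List Nat) : List Nat → List (Nat × List Nat) → Bool
  | _, [] => true
  | pre, (m, ws) :: L =>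
    (Nat.blt m 504 && ((ws.all fun w => pre.all fun p => Nat.beq (appT Ts (bitsW w) p) p) &&
      decide ((ws.map fun w => appT Ts (bitsW w) m).Nodup))) && okChain Ts (m :: pre) L

theorem lowZero_iff {t k : Nat} (h : lowZero t k = true) : (∀ i < k, t.testBit i = false) ∧ t < 2 ^ 22 := by
  simp only [lowZero, Bool.and_eq_true, Nat.beq_eq, Nat.blt_eq] at h
  refine ⟨fun i hi => ?_, h.2⟩
  have e : (t &&& (2 ^ k - 1)).testBit i = false := by
    change (Nat.land t (Nat.sub (Nat.pow 2 k) 1)).testBit i = false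
    rw [h.1]; exact Nat.zero_testBit i
  rw [Nat.testBit_and, Nat.testBit_two_pow_sub_one] at e
  simpa [hi] using e

/-- the facts about the data -/
structure PcData.Good (el : Nat → G24) : Prop where
  pts : okPts d.S = true
  tab : ∀ k < 22, TabOf d.S (el k) (d.Ts.getD k 0)
  qlt : ∀ i ∈ d.Qi, i < 504
  gen : Subgroup.closure (tp '' {q | ∃ i ∈ d.Qi, sPt d.S i = q}) = ⊤
  conj : ∀ j < 22, d.okConj j = true
  sq : d.okSq = true
  chain : okChain d.Ts [] d.chain = true
  size : 2 ^ 22 ≤ (d.chain.map fun p => p.2.length).prod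

/-- the value of a word -/
noncomputable def ev (el : Nat → G24) (gs : List Nat) : G24 := (gs.map el).prod

theorem ev_append (el : Nat → G24) (a b : List Nat) : ev el (a ++ b) = ev el a * ev el b := by simp [ev]

theorem ev_single (el : Nat → G24) (a : Nat) : ev el [a] = el a := by simp [ev]

/-- the terms of the chain -/
noncomputable def term (el : Nat → G24) (k : Nat) : Subgroup G24 := Subgroup.closure (el '' {j | k ≤ j ∧ j < 22})

theorem term_mono (el : Nat → G24) {k m : Nat} (h : k ≤ m) : term el m ≤ term el k :=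
  Subgroup.closure_mono (Set.image_mono fun _ hj => ⟨le_trans h hj.1, hj.2⟩)

theorem el_mem (el : Nat → G24) {k j : Nat} (h : k ≤ j) (hj : j < 22) : el j ∈ term el k :=
  Subgroup.subset_closure ⟨j, ⟨h, hj⟩, rfl⟩

theorem term_last (el : Nat → G24) {k : Nat} (h : 22 ≤ k) : term el k = ⊥ := by
  rw [term, show {j | k ≤ j ∧ j < 22} = (∅ : Set Nat) from Set.eq_empty_iff_forall_notMem.2 fun j hj => by
    obtain ⟨a, b⟩ := hj; omega, Set.image_empty, Subgroup.closure_empty]

theorem ev_bits_mem (el : Nat → G24) {t k : Nat} (h : ∀ i < k, t.testBit i = false) :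
    ev el (bitsW t) ∈ term el k := by
  refine list_prod_mem fun x hx => ?_
  obtain ⟨j, hj, rfl⟩ := List.mem_map.1 hx
  obtain ⟨-, hj2, hj3⟩ := mem_bitsFrom t 22 0 j hj
  refine el_mem el ?_ (by omega)
  by_contra hlt
  rw [h j (by omega)] at hj3
  exact Bool.false_ne_true hj3

namespace PcData.Good

variable {d} {el : Nat → G24} (G : d.Good el)
include G

theorem eq_of_eqQ {gs gs' : List Nat} (h : d.eqQ gs gs' = true) (h1 : ∀ g ∈ gs, g < 22)
    (h2 : ∀ g ∈ gs', g < 22) : ev el gs = ev el gs' := by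
  refine eq_of_agree G.gen ?_
  rintro _ ⟨i, hi, rfl⟩
  simp only [PcData.eqQ, List.all_eq_true, Nat.beq_eq] at h
  rw [ev, ev, (π_prod_tab G.tab gs h1 i (G.qlt i hi)).2, (π_prod_tab G.tab gs' h2 i (G.qlt i hi)).2, h i hi]

omit G in
theorem bits_lt (t : Nat) : ∀ g ∈ bitsW t, g < 22 := fun g hg => by
  have := (mem_bitsFrom t 22 0 g hg).2.1; omega

theorem conj_gen {j k : Nat} (hj : j < 22) (hk : k < 22) :
    el j * el k * (el j)⁻¹ ∈ term el k := by
  have h := allLt_spec (G.conj j hj) k hk
  rw [force_eq, Bool.and_eq_true] at h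
  have e := G.eq_of_eqQ h.2 (by simp [hj, hk]) (by
    intro g hg
    rcases List.mem_append.1 hg with hg | hg
    · exact bits_lt _ g hg
    · simpa [List.mem_singleton.1 hg] using hj)
  rw [ev_append, ev_single, show ev el [j, k] = el j * el k by simp [ev]] at e
  rw [e, mul_inv_cancel_right]
  exact ev_bits_mem el (lowZero_iff h.1).1

theorem normal {g : G24} (hg : g ∈ term el 0) {k : Nat} : ∀ h ∈ term el k, g * h * g⁻¹ ∈ term el k := by
  haveI := Fi24.finite_Fi24
  have hgen : ∀ j, j < 22 → ∀ h ∈ term el k, el j * h * (el j)⁻¹ ∈ term el k := by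
    intro j hj h hh
    induction hh using Subgroup.closure_induction with
    | mem x hx =>
      obtain ⟨i, ⟨hi, hi'⟩, rfl⟩ := hx
      exact term_mono el hi (G.conj_gen hj hi')
    | one => simp
    | mul a b _ _ ha hb =>
      rw [show el j * (a * b) * (el j)⁻¹ = el j * a * (el j)⁻¹ * (el j * b * (el j)⁻¹) by group]
      exact mul_mem ha hb
    | inv a _ ha =>
      rw [show el j * a⁻¹ * (el j)⁻¹ = (el j * a * (el j)⁻¹)⁻¹ by group]
      exact inv_mem ha
  induction hg using Subgroup.closure_induction with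
  | mem x hx => obtain ⟨j, ⟨-, hj⟩, rfl⟩ := hx; exact hgen j hj
  | one => simp
  | mul a b _ _ ha hb =>
    intro h hh
    rw [show a * b * h * (a * b)⁻¹ = a * (b * h * b⁻¹) * a⁻¹ by group]
    exact ha _ (hb h hh)
  | inv a _ ha =>
    intro h hh
    have hpow : ∀ n : ℕ, a ^ n * h * (a ^ n)⁻¹ ∈ term el k := by
      intro n
      induction n with
      | zero => simpa using hh
      | succ n ih =>
        rw [pow_succ', show a * a ^ n * h * (a * a ^ n)⁻¹ = a * (a ^ n * h * (a ^ n)⁻¹) * a⁻¹ by group]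
        exact ha _ ih
    have e : a⁻¹ = a ^ (orderOf a - 1) := inv_eq_of_mul_eq_one_right (by
      rw [← pow_succ', Nat.sub_add_cancel (orderOf_pos a), pow_orderOf_eq_one])
    rw [e]
    exact hpow _

theorem sq_mem {k : Nat} (hk : k < 22) : el k * el k ∈ term el (k + 1) := by
  have h := allLt_spec G.sq k hk
  rw [force_eq, Bool.and_eq_true] at h
  have e := G.eq_of_eqQ h.2 (by simp [hk]) (bits_lt _)
  rw [show ev el [k, k] = el k * el k by simp [ev]] at e
  rw [e]
  exact ev_bits_mem el (lowZero_iff h.1).1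

theorem split {k : Nat} (hk : k < 22) {x : G24} (hx : x ∈ term el k) :
    x ∈ term el (k + 1) ∨ ∃ y ∈ term el (k + 1), x = el k * y := by
  have h0 : el k ∈ term el 0 := el_mem el (Nat.zero_le _) hk
  have hn' : ∀ y ∈ term el (k + 1), (el k)⁻¹ * y * el k ∈ term el (k + 1) := fun y hy => by
    simpa using G.normal (inv_mem h0) y hy
  induction hx using Subgroup.closure_induction with
  | mem x hx =>
    obtain ⟨j, ⟨hj, hj'⟩, rfl⟩ := hx
    rcases eq_or_lt_of_le hj with rfl | hj
    · exact Or.inr ⟨1, one_mem _, by simp⟩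
    · exact Or.inl (el_mem el hj hj')
  | one => exact Or.inl (one_mem _)
  | mul a b _ _ ha hb =>
    rcases ha with ha | ⟨y, hy, rfl⟩ <;> rcases hb with hb | ⟨z, hz, rfl⟩
    · exact Or.inl (mul_mem ha hb)
    · exact Or.inr ⟨(el k)⁻¹ * a * el k * z, mul_mem (hn' a ha) hz, by group⟩
    · exact Or.inr ⟨y * b, mul_mem hy hb, by group⟩
    · refine Or.inl ?_
      rw [show el k * y * (el k * z) = (el k * el k) * ((el k)⁻¹ * y * el k) * z by group]
      exact mul_mem (mul_mem (G.sq_mem hk) (hn' y hy)) hz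
  | inv a _ ha =>
    rcases ha with ha | ⟨y, hy, rfl⟩
    · exact Or.inl (inv_mem ha)
    · refine Or.inr ⟨(el k)⁻¹ * y⁻¹ * el k * (el k * el k)⁻¹,
        mul_mem (hn' _ (inv_mem hy)) (inv_mem (G.sq_mem hk)), ?_⟩
      group

theorem exists_nf : ∀ n k, k + n = 22 → ∀ x ∈ term el k,
    ∃ t < 2 ^ 22, (∀ i < k, t.testBit i = false) ∧ ev el (bitsW t) = x
  | 0, k, hk, x, hx => by
    rw [term_last el (k := k) (by omega), Subgroup.mem_bot] at hx
    refine ⟨0, by norm_num, fun i _ => Nat.zero_testBit i, ?_⟩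
    rw [hx, bitsW, show (22 : Nat) = 22 + 0 from rfl, bitsFrom_low 0 0 22 fun i _ _ => Nat.zero_testBit i]
    rfl
  | n + 1, k, hk, x, hx => by
    rcases G.split (k := k) (by omega) hx with h | ⟨y, hy, rfl⟩
    · obtain ⟨t, ht, hlow, e⟩ := exists_nf n (k + 1) (by omega) x h
      exact ⟨t, ht, fun i hi => hlow i (by omega), e⟩
    · obtain ⟨t, ht, hlow, e⟩ := exists_nf n (k + 1) (by omega) y hy
      refine ⟨t ||| 2 ^ k, Nat.or_lt_two_pow ht (Nat.pow_lt_pow_right (by norm_num) (by omega)), ?_, ?_⟩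
      · intro i hi
        rw [Nat.testBit_or, hlow i (by omega), Nat.testBit_two_pow]
        simp; omega
      have e1 : bitsW (t ||| 2 ^ k) = k :: bitsFrom t (k + 1) n := by
        rw [bitsW, show (22 : Nat) = k + (n + 1) by omega, bitsFrom_low (n + 1) 0 k fun i _ hi => by
          rw [Nat.testBit_or, hlow i (by omega), Nat.testBit_two_pow]
          simp; omega, Nat.zero_add, bitsFrom_succ, if_pos (by simp)]
        refine congrArg _ (bitsFrom_congr n (k + 1) fun i hi _ => ?_)
        rw [Nat.testBit_or, Nat.testBit_two_pow]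
        simp; omega
      have e2 : bitsW t = bitsFrom t (k + 1) n := by
        rw [bitsW, show (22 : Nat) = (k + 1) + n by omega,
          bitsFrom_low n 0 (k + 1) fun i _ hi => hlow i (by omega), Nat.zero_add]
      rw [e1, ← e, e2, ev, ev, List.map_cons, List.prod_cons]

theorem card_chain : ∀ (L : List (Nat × List Nat)) (pre : List Nat), (∀ p ∈ pre, p < 504) →
    okChain d.Ts pre L = true →
      (L.map fun p => p.2.length).prod ≤
        Nat.card {g : G24 // g ∈ term el 0 ∧ ∀ p ∈ pre, π g (sPt d.S p) = sPt d.S p}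
  | [], pre, _, _ => by
    haveI := Fi24.finite_Fi24
    haveI : Nonempty {g : G24 // g ∈ term el 0 ∧ ∀ p ∈ pre, π g (sPt d.S p) = sPt d.S p} :=
      ⟨⟨1, one_mem _, fun p _ => by simp⟩⟩
    simpa using Nat.one_le_iff_ne_zero.2 Nat.card_pos.ne'
  | (m, ws) :: L, pre, hpre, h => by
    haveI := Fi24.finite_Fi24
    simp only [okChain, Bool.and_eq_true, Nat.blt_eq, List.all_eq_true, Nat.beq_eq, decide_eq_true_eq] at h
    obtain ⟨⟨hm, hfix, hnd⟩, hL⟩ := h
    have ih := card_chain L (m :: pre) (List.forall_mem_cons.2 ⟨hm, hpre⟩) hL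
    let A := {g : G24 // g ∈ term el 0 ∧ ∀ p ∈ pre, π g (sPt d.S p) = sPt d.S p}
    let B := {g : G24 // g ∈ term el 0 ∧ ∀ p ∈ m :: pre, π g (sPt d.S p) = sPt d.S p}
    let f : Fin ws.length × B → A := fun z => ⟨ev el (bitsW ws[z.1]) * z.2.1,
      mul_mem (ev_bits_mem el (k := 0) fun i hi => absurd hi (Nat.not_lt_zero i)) z.2.2.1, fun p hp => by
        rw [map_mul, Equiv.Perm.mul_apply, z.2.2.2 p (List.mem_cons_of_mem _ hp),
          ev, (π_prod_tab G.tab _ (bits_lt _) p (hpre p hp)).2]
        exact congrArg _ (hfix _ (List.getElem_mem _) p hp)⟩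
    have hf : Function.Injective f := by
      rintro ⟨a, b⟩ ⟨a', b'⟩ e
      have e0 := congrArg Subtype.val e
      simp only [f] at e0
      have e1 := congrArg (fun g => π g (sPt d.S m)) e0
      simp only [map_mul, Equiv.Perm.mul_apply, b.2.2 m (List.mem_cons_self ..),
        b'.2.2 m (List.mem_cons_self ..), ev] at e1
      rw [(π_prod_tab G.tab _ (bits_lt _) m hm).2, (π_prod_tab G.tab _ (bits_lt _) m hm).2] at e1
      have e2 := sPt_inj G.pts (π_prod_tab G.tab _ (bits_lt _) m hm).1 (π_prod_tab G.tab _ (bits_lt _) m hm).1 e1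
      have ha : a = a' := Fin.ext ((hnd.getElem_inj_iff (hi := by simp) (hj := by simp)).1 (by simpa using e2))
      subst ha
      exact Prod.ext rfl (Subtype.ext (mul_left_cancel e0))
    have := Nat.card_le_card_of_injective f hf
    rw [Nat.card_prod, Nat.card_fin] at this
    rw [List.map_cons, List.prod_cons]
    exact le_trans (Nat.mul_le_mul le_rfl ih) this

theorem nf_bijective : Function.Bijective fun t : Fin (2 ^ 22) =>
    (⟨ev el (bitsW t), ev_bits_mem el fun i hi => absurd hi (Nat.not_lt_zero i)⟩ : term el 0) := by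
  haveI := Fi24.finite_Fi24
  have hs : Function.Surjective fun t : Fin (2 ^ 22) =>
      (⟨ev el (bitsW t), ev_bits_mem el fun i hi => absurd hi (Nat.not_lt_zero i)⟩ : term el 0) := fun x => by
    obtain ⟨t, ht, -, e⟩ := G.exists_nf 22 0 rfl x x.2
    exact ⟨⟨t, ht⟩, Subtype.ext e⟩
  refine hs.bijective_of_nat_card_le ?_
  rw [Nat.card_fin]
  refine le_trans (le_trans G.size (G.card_chain d.chain [] (by simp) G.chain)) ?_
  exact Nat.card_le_card_of_injective (fun g => (⟨g.1, g.2.1⟩ : term el 0))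
    fun a b e => Subtype.ext (congrArg (fun x : term el 0 => (x : G24)) e)

theorem card_P : Nat.card (term el 0) = 2 ^ 22 := by
  rw [← Nat.card_congr (Equiv.ofBijective _ G.nf_bijective), Nat.card_fin]

theorem nf_inj {t t' : Nat} (ht : t < 2 ^ 22) (ht' : t' < 2 ^ 22)
    (e : ev el (bitsW t) = ev el (bitsW t')) : t = t' :=
  congrArg Fin.val (G.nf_bijective.1 (a₁ := ⟨t, ht⟩) (a₂ := ⟨t', ht'⟩) (Subtype.ext e))

theorem exists_conj_mem {x : G24} (hx : x * x = 1) : ∃ g : G24, g * x * g⁻¹ ∈ term el 0 := by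
  haveI := Fi24.finite_Fi24
  haveI : Fact (Nat.Prime 2) := ⟨Nat.prime_two⟩
  have hfac : (Nat.card G24).factorization 2 = 22 := by
    rw [Fi24.natCard]
    have h1 : 2 ^ 22 ∣ 2 * 1255205709190661721292800 := by norm_num
    have h2 : ¬ 2 ^ 23 ∣ 2 * 1255205709190661721292800 := by norm_num
    have h0 : (2 * 1255205709190661721292800 : ℕ) ≠ 0 := by norm_num
    rw [Nat.Prime.pow_dvd_iff_le_factorization Nat.prime_two h0] at h1 h2
    omega
  let P : Sylow 2 G24 := Sylow.ofCard (term el 0) (by rw [hfac, G.card_P])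
  have hp : IsPGroup 2 (Subgroup.zpowers x) := by
    intro y
    obtain ⟨n, hn⟩ := Subgroup.mem_zpowers_iff.1 y.2
    refine ⟨1, Subtype.ext ?_⟩
    rw [SubmonoidClass.coe_pow, ← hn, pow_one, ← zpow_natCast, ← zpow_mul, mul_comm, zpow_mul,
      zpow_natCast, pow_two, hx, one_zpow]
    rfl
  obtain ⟨Q, hQ⟩ := hp.exists_le_sylow
  obtain ⟨g, hg⟩ := MulAction.exists_smul_eq G24 Q P
  refine ⟨g, ?_⟩
  have h : g * x * g⁻¹ ∈ MulAut.conj g • (Q : Subgroup G24) := by
    have := Subgroup.smul_mem_pointwise_smul x (MulAut.conj g) _ (hQ (Subgroup.mem_zpowers x))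
    rwa [MulAut.smul_def, MulAut.conj_apply] at this
  have h' : g * x * g⁻¹ ∈ ((g • Q : Sylow 2 G24) : Subgroup G24) := h
  rw [hg] at h'
  exact h'

end PcData.Good

end CfsgLib.Spor.Fi24Invol
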