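import Cfsg.Agent.Lib.Spor.Fi24Invol.Words
import Cfsg.Agent.Lib.Spor.Fi24Invol.Check

/-!
Elements acting on a set of 504 points by tables: equal actions on a set of points whose transpositions
generate the group give equal elements.
-/

set_option autoImplicit false

namespace CfsgLib.Spor.Fi24Invol

open CfsgLib.BitPerm CfsgLib.PresCert Cfsg.Spor
open CfsgLib.Spor.Fi24 (π sys i₀ idx gen gen_sq numGen cosetFacts okNets)

local notation "G24" => Cfsg.Spor.Fi24
local notation "Pt" => Fin 306936

/-- a point of the packed list, as a point -/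
noncomputable def sPt (S i : Nat) : Pt := ⟨fld 20 S i % 306936, Nat.mod_lt _ (by norm_num)⟩

theorem sPt_val {S : Nat} (h : okPts S = true) {i : Nat} (hi : i < 504) : (sPt S i : ℕ) = fld 20 S i := by
  rw [okPts, force_eq] at h
  have := allLt_spec h i hi
  simp only [Bool.and_eq_true, Nat.blt_eq] at this
  exact Nat.mod_eq_of_lt this.1

theorem sPt_inj {S : Nat} (h : okPts S = true) {i j : Nat} (hi : i < 504) (hj : j < 504)
    (e : sPt S i = sPt S j) : i = j := by
  have e' : fld 20 S i = fld 20 S j := by rw [← sPt_val h hi, ← sPt_val h hj, e]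
  rw [okPts, force_eq] at h
  rcases lt_trichotomy i j with hl | rfl | hl
  · have := allLt_spec h j hj
    simp only [Bool.and_eq_true] at this
    have := allLt_spec this.2 i hl
    simp only [Bool.not_eq_true', ← Bool.not_eq_true, Nat.beq_eq] at this
    exact absurd e'.symm this
  · rfl
  · have := allLt_spec h i hi
    simp only [Bool.and_eq_true] at this
    have := allLt_spec this.2 j hl
    simp only [Bool.not_eq_true', ← Bool.not_eq_true, Nat.beq_eq] at this
    exact absurd e' this

/-- a table gives the action of an element on the set -/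
def TabOf (S : Nat) (g : G24) (T : Nat) : Prop :=
  ∀ i < 504, fld 16 T i < 504 ∧ π g (sPt S i) = sPt S (fld 16 T i)

theorem tabOf_of_okTab {S T : Nat} {w : List Nat} (hS : okPts S = true) (hw : okLetters w = true)
    (h : okTab S T w = true) : TabOf S (wEl w) T := by
  rw [okTab, force_eq, force_eq] at h
  intro i hi
  have hrow : ∀ j < 19, (sys.actW w (plane j 19)).testBit (fld 20 S i) =
      (fld 20 S (fld 16 T i)).testBit j ∧ fld 16 T i < 504 := by
    intro j hj
    have h' := allLt_spec h j hj
    rw [force_eq] at h'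
    have h'' := allLt_spec h' i hi
    simp only [Bool.and_eq_true, Nat.blt_eq] at h''
    refine ⟨?_, h''.2⟩
    revert h''
    cases hA : (sys.actW w (plane j 19)).testBit (fld 20 S i) <;> intro h''
    · have := Nat.eq_of_beq_eq_true h''.1
      change (fld 20 S (fld 16 T i)) >>> j &&& 1 = 0 at this
      rw [Nat.and_one_is_mod] at this
      rw [Nat.testBit, Nat.one_and_eq_mod_two, this]; rfl
    · have := Nat.eq_of_beq_eq_true h''.1
      change (fld 20 S (fld 16 T i)) >>> j &&& 1 = 1 at this
      rw [Nat.and_one_is_mod] at this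
      rw [Nat.testBit, Nat.one_and_eq_mod_two, this]; rfl
  have hlt := (hrow 0 (by norm_num)).2
  refine ⟨hlt, Fin.ext ?_⟩
  rw [π_wEl hw, sPt_val hS hi, sPt_val hS hlt]
  have hp : sys.ptW w (fld 20 S i) < 306936 := by
    have := ((π (wEl w) (sPt S i)) : Pt).2
    rwa [π_wEl hw, sPt_val hS hi] at this
  have hb : fld 20 S (fld 16 T i) < 306936 := by rw [← sPt_val hS hlt]; exact Fin.is_lt _
  refine Nat.eq_of_testBit_eq fun j => ?_
  by_cases hj : j < 19
  · rw [← (hrow j hj).1, Sys.testBit_actW okNets, testBit_plane]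
    have h19 : sys.ptW w (fld 20 S i) < 524288 := lt_trans hp (by norm_num)
    simp [h19]
  · have e : ∀ x < 306936, Nat.testBit x j = false := fun x hx =>
      Nat.testBit_lt_two_pow (lt_of_lt_of_le (show x < 2 ^ 19 from lt_trans hx (by norm_num))
        (Nat.pow_le_pow_right (by norm_num) (not_lt.1 hj)))
    rw [e _ hp, e _ hb]

/-- the product of the tables of a word -/
noncomputable def appT (Ts : List Nat) (gs : List Nat) (i : Nat) : Nat :=
  List.rec i (fun g _ r => force r fun r' => fld 16 (Ts.getD g 0) r') gs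

theorem π_prod_tab {S : Nat} {Ts : List Nat} {el : Nat → G24} {n : Nat}
    (hel : ∀ k < n, TabOf S (el k) (Ts.getD k 0)) :
    ∀ gs : List Nat, (∀ g ∈ gs, g < n) → ∀ i < 504,
      appT Ts gs i < 504 ∧ π ((gs.map el).prod) (sPt S i) = sPt S (appT Ts gs i)
  | [], _, i, hi => ⟨hi, by simp [appT]⟩
  | g :: gs, hg, i, hi => by
    obtain ⟨h1, h2⟩ := π_prod_tab hel gs (fun x hx => hg x (List.mem_cons_of_mem _ hx)) i hi
    have e : appT Ts (g :: gs) i = fld 16 (Ts.getD g 0) (appT Ts gs i) := force_eq _ _
    obtain ⟨h3, h4⟩ := hel g (hg g (List.mem_cons_self ..)) _ h1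
    rw [e]
    refine ⟨h3, ?_⟩
    rw [List.map_cons, List.prod_cons, map_mul, Equiv.Perm.mul_apply, h2, h4]

/-- two elements agreeing on a set of points with generating transpositions are equal -/
theorem eq_of_agree {Q : Set Pt} (hQ : Subgroup.closure (tp '' Q) = ⊤) {g g' : G24}
    (h : ∀ q ∈ Q, π g q = π g' q) : g = g' := by
  have hc : g'⁻¹ * g ∈ Subgroup.center G24 := by
    rw [Subgroup.mem_center_iff]
    intro x
    have hle : Subgroup.closure (tp '' Q) ≤ Subgroup.centralizer ({g'⁻¹ * g} : Set G24) := by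
      rw [Subgroup.closure_le]
      rintro _ ⟨q, hq, rfl⟩
      refine Subgroup.mem_centralizer_singleton_iff.2 ?_
      refine ((commute_tp_iff _ q).2 ?_).symm.eq
      rw [map_mul, Equiv.Perm.mul_apply, h q hq, map_inv, Equiv.Perm.inv_def, Equiv.symm_apply_apply]
    exact Subgroup.mem_centralizer_singleton_iff.1 (hle (hQ ▸ Subgroup.mem_top x))
  rw [center_bot, Subgroup.mem_bot] at hc
  exact (inv_mul_eq_one.1 hc).symm

end CfsgLib.Spor.Fi24Invol
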